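import Mathlib

/-!
Bases of size two for odd order groups: definitions and the general combination lemmas.
-/

set_option autoImplicit false

namespace H35.OddBase

open MulAction

section Defs

variable (G V : Type*) [Group G] [AddCommGroup V] [DistribMulAction G V]

/-- Two vectors whose common stabiliser is the kernel of the action. -/
def HasPair : Prop :=
  ∃ v w : V, ∀ g : G, g • v = v → g • w = w → ∀ x : V, g • x = x

/-- Every invariant subgroup has an invariant complement. -/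
def IsCR : Prop :=
  ∀ U : AddSubgroup V, (∀ g : G, ∀ v ∈ U, g • v ∈ U) →
    ∃ W : AddSubgroup V, (∀ g : G, ∀ w ∈ W, g • w ∈ W) ∧ U ⊓ W = ⊥ ∧ U ⊔ W = ⊤

/-- No invariant subgroup but the two trivial ones. -/
def IsIrr : Prop :=
  Nontrivial V ∧ ∀ U : AddSubgroup V, (∀ g : G, ∀ v ∈ U, g • v ∈ U) → U = ⊥ ∨ U = ⊤

theorem IsIrr.isCR (h : IsIrr G V) : IsCR G V := by
  intro U hU
  rcases h.2 U hU with rfl | rfl
  · exact ⟨⊤, fun _ _ _ => AddSubgroup.mem_top _, bot_inf_eq _, bot_sup_eq _⟩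
  · refine ⟨⊥, fun g w hw => ?_, inf_bot_eq _, sup_bot_eq _⟩
    rw [AddSubgroup.mem_bot] at hw ⊢
    rw [hw, smul_zero]

end Defs

/-- A subset whose setwise stabiliser is the kernel of the action. -/
def HasSet (G X : Type*) [Group G] [MulAction G X] : Prop :=
  ∃ S : Set X, ∀ g : G, (∀ x, g • x ∈ S ↔ x ∈ S) → ∀ x : X, g • x = x

theorem smul_fix_of_sq_fix {G X : Type*} [Group G] [Finite G] (hodd : Odd (Nat.card G))
    [MulAction G X] {g : G} {x : X} (h : g • g • x = x) : g • x = x := by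
  obtain ⟨k, hk⟩ : Odd (orderOf g) := hodd.of_dvd_nat (orderOf_dvd_natCard g)
  have h1 : ∀ i : ℕ, (g ^ (2 * i)) • x = x := by
    intro i
    induction i with
    | zero => simp
    | succ i ih => rw [show 2 * (i + 1) = 2 * i + 2 by ring, pow_add, mul_smul, pow_two, mul_smul, h, ih]
  have h2 : g ^ (2 * k + 1) = 1 := by rw [← hk, pow_orderOf_eq_one]
  calc g • x = g • (g ^ (2 * k)) • x := by rw [h1]
    _ = x := by rw [← mul_smul, ← pow_succ', h2, one_smul]

theorem inv_ne_self_of_odd {G : Type*} [Group G] [Finite G] (hodd : Odd (Nat.card G)) {g : G}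
    (hg : g ≠ 1) : g⁻¹ ≠ g := by
  intro h
  have h2 : g ^ 2 = 1 := by rw [pow_two]; nth_rewrite 1 [← h]; exact inv_mul_cancel g
  obtain ⟨k, hk⟩ : Odd (orderOf g) := hodd.of_dvd_nat (orderOf_dvd_natCard g)
  have h3 : g ^ (2 * k + 1) = 1 := by rw [← hk, pow_orderOf_eq_one]
  rw [pow_add, pow_mul, h2, one_pow, one_mul, pow_one] at h3
  exact hg h3

/-- With a base of size two, an odd order group has two inequivalent such bases. -/
theorem HasPair.two_orbits {G V : Type*} [Group G] [Finite G] [AddCommGroup V]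
    [DistribMulAction G V] [Nontrivial V] (hodd : Odd (Nat.card G)) (h : HasPair G V) :
    ∃ p q : V × V, (∀ g : G, g • p = p → ∀ x : V, g • x = x) ∧
      (∀ g : G, g • q = q → ∀ x : V, g • x = x) ∧ ∀ g : G, g • p ≠ q := by
  obtain ⟨v, w, hvw⟩ := h
  by_cases hsw : ∃ g : G, g • (v, w) = (w, v)
  swap
  · refine ⟨(v, w), (w, v), fun g hg x => ?_, fun g hg x => ?_, fun g hg => hsw ⟨g, hg⟩⟩
    · rw [Prod.smul_mk, Prod.ext_iff] at hg; exact hvw g hg.1 hg.2 x
    · rw [Prod.smul_mk, Prod.ext_iff] at hg; exact hvw g hg.2 hg.1 x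
  obtain ⟨g, hg⟩ := hsw
  rw [Prod.smul_mk, Prod.mk.injEq] at hg
  have hvv : g • v = v := smul_fix_of_sq_fix hodd (by rw [hg.1, hg.2])
  have hwv : w = v := hg.1.symm.trans hvv
  subst hwv
  by_cases hw : w = 0
  · subst hw
    obtain ⟨x, hx⟩ := exists_ne (0 : V)
    have htriv : ∀ g : G, ∀ y : V, g • y = y := fun g => hvw g (smul_zero g) (smul_zero g)
    exact ⟨(x, 0), (0, 0), fun g _ => htriv g, fun g _ => htriv g, fun g hg => hx (by
      rw [Prod.smul_mk, Prod.ext_iff, htriv] at hg; exact hg.1)⟩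
  · refine ⟨(w, w), (w, 0), fun g hg => ?_, fun g hg => ?_, fun g hg => ?_⟩
    · rw [Prod.smul_mk, Prod.ext_iff] at hg; exact hvw g hg.1 hg.1
    · rw [Prod.smul_mk, Prod.ext_iff] at hg; exact hvw g hg.1 hg.1
    · rw [Prod.smul_mk, Prod.ext_iff] at hg
      exact hw (hg.1.symm.trans hg.2)

/-- The order bound coming from two regular orbits on pairs. -/
theorem two_mul_card_le {G V : Type*} [Group G] [Finite G] [AddCommGroup V] [Finite V]
    [DistribMulAction G V] [FaithfulSMul G V] [Nontrivial V] (hodd : Odd (Nat.card G))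
    (h : HasPair G V) : 2 * Nat.card G ≤ Nat.card V * Nat.card V := by
  obtain ⟨p, q, hp, hq, hpq⟩ := h.two_orbits hodd
  have key : ∀ r : V × V, (∀ g : G, g • r = r → ∀ x : V, g • x = x) →
      Function.Injective fun g : G => g • r := by
    intro r hr a b hab
    have h1 : (b⁻¹ * a) • r = r := by
      rw [mul_smul]; exact inv_smul_eq_iff.2 hab
    have h2 : b⁻¹ * a = 1 := eq_of_smul_eq_smul fun x => by rw [hr _ h1, one_smul]
    exact (inv_mul_eq_one.1 h2).symm
  have hinj : Function.Injective (Sum.elim (fun g : G => g • p) fun g : G => g • q) := by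
    rintro (a | a) (b | b) hab <;> simp only [Sum.elim_inl, Sum.elim_inr] at hab
    · exact congrArg Sum.inl (key p hp hab)
    · exact absurd (by rw [mul_smul, hab, inv_smul_smul]) (hpq (b⁻¹ * a))
    · exact absurd (by rw [mul_smul, ← hab, inv_smul_smul]) (hpq (a⁻¹ * b))
    · exact congrArg Sum.inr (key q hq hab)
  have := Nat.card_le_card_of_injective _ hinj
  rw [Nat.card_sum, Nat.card_prod] at this
  omega

/-- Gluing configurations over a permuted index set: `T` distinguishes the indices, and two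
inequivalent regular configurations are available over each index. -/
theorem combine {G Ω X : Type*} [Group G] [MulAction G Ω] [MulAction G X] (hT : HasSet G Ω)
    (F : Ω → Set X) (hF : ∀ (g : G) (ω : Ω), ∀ x ∈ F ω, g • x ∈ F (g • ω))
    (Triv : G → Ω → Prop)
    (hTriv : ∀ (t g : G) (ω : Ω), Triv (t⁻¹ * g * t) ω → Triv g (t • ω))
    (hreg : ∀ ω : Ω, ∃ a b : X, a ∈ F ω ∧ b ∈ F ω ∧
      (∀ g : G, g • ω = ω → g • a = a → Triv g ω) ∧
      (∀ g : G, g • ω = ω → g • b = b → Triv g ω) ∧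
      ∀ g : G, g • ω = ω → g • a ≠ b) :
    ∃ c : Ω → X, (∀ ω, c ω ∈ F ω) ∧
      ∀ g : G, (∀ ω, g • c ω = c (g • ω)) → ∀ ω, g • ω = ω ∧ Triv g ω := by
  classical
  obtain ⟨T, hT⟩ := hT
  choose a b haF hbF ha hb hab using hreg
  let r : Ω → Ω := fun ω => (Quotient.mk'' ω : Quotient (orbitRel G Ω)).out
  have hr : ∀ ω, ∃ t : G, t • r ω = ω := fun ω => by
    have h1 : r ω ∈ orbit G ω :=
      orbitRel_apply.1 (Quotient.exact (Quotient.out_eq (Quotient.mk'' ω : Quotient (orbitRel G Ω))))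
    exact (orbit_eq_iff.2 h1).symm.subset (mem_orbit_self ω)
  choose t ht using hr
  have hrg : ∀ (g : G) (ω : Ω), r (g • ω) = r ω := fun g ω => by
    have : (Quotient.mk'' (g • ω) : Quotient (orbitRel G Ω)) = Quotient.mk'' ω :=
      Quotient.sound (mem_orbit ω g)
    simp only [r, this]
  refine ⟨fun ω => t ω • (if ω ∈ T then a (r ω) else b (r ω)), fun ω => ?_, fun g hg => ?_⟩
  · have : ∀ x ∈ F (r ω), t ω • x ∈ F ω := fun x hx => by
      have h := hF (t ω) (r ω) x hx
      rwa [ht ω] at h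
    by_cases hω : ω ∈ T
    · simp only [if_pos hω]; exact this _ (haF _)
    · simp only [if_neg hω]; exact this _ (hbF _)
  have key : ∀ ω, ((t (g • ω))⁻¹ * g * t ω) • r ω = r ω ∧
      ((t (g • ω))⁻¹ * g * t ω) • (if ω ∈ T then a (r ω) else b (r ω)) =
        (if g • ω ∈ T then a (r ω) else b (r ω)) := by
    intro ω
    constructor
    · rw [mul_smul, mul_smul, ht ω, inv_smul_eq_iff]
      exact (ht (g • ω)).symm.trans (by rw [hrg])
    · have h := hg ω
      simp only at h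
      rw [hrg] at h
      rw [mul_smul, mul_smul, h, inv_smul_smul]
  have hTinv : ∀ ω, g • ω ∈ T ↔ ω ∈ T := by
    intro ω
    obtain ⟨k1, k2⟩ := key ω
    by_cases h1 : ω ∈ T <;> by_cases h2 : g • ω ∈ T <;> simp only [h1, h2, if_true, if_false] at k2
    · exact iff_of_true h2 h1
    · exact absurd k2 (hab _ _ k1)
    · exfalso
      refine hab (r ω) ((t (g • ω))⁻¹ * g * t ω)⁻¹ (inv_smul_eq_iff.2 k1.symm) ?_
      rw [inv_smul_eq_iff, k2]
    · exact iff_of_false h2 h1
  intro ω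
  have hfix : g • ω = ω := hT g hTinv ω
  refine ⟨hfix, ?_⟩
  obtain ⟨k1, k2⟩ := key ω
  rw [hfix] at k1 k2
  have h := hTriv (t ω) g (r ω) ?_
  · rwa [ht ω] at h
  by_cases hω : ω ∈ T
  · rw [if_pos hω] at k2; exact ha _ _ k1 k2
  · rw [if_neg hω] at k2; exact hb _ _ k1 k2

/-- Splitting off an invariant direct summand. -/
theorem IsCR.restrict {G V : Type*} [Group G] [AddCommGroup V] [DistribMulAction G V]
    (hcr : IsCR G V) (U W : AddSubgroup V) (hU : ∀ g : G, ∀ v ∈ U, g • v ∈ U)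
    (hW : ∀ g : G, ∀ v ∈ W, g • v ∈ W) (hWU : W ≤ U) :
    ∃ W' : AddSubgroup V, (∀ g : G, ∀ v ∈ W', g • v ∈ W') ∧ W' ≤ U ∧ W ⊓ W' = ⊥ ∧ W ⊔ W' = U := by
  obtain ⟨W1, hW1, hb, ht⟩ := hcr W hW
  refine ⟨W1 ⊓ U, fun g v hv => ⟨hW1 g v hv.1, hU g v hv.2⟩, inf_le_right, ?_, ?_⟩
  · rw [← inf_assoc, hb, bot_inf_eq]
  · rw [← sup_inf_assoc_of_le W1 hWU, ht, top_inf_eq]

end H35.OddBase
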