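import Mathlib

/-!
Non-degenerate alternating pairings on finite abelian groups with values in a cyclic group.
-/

set_option autoImplicit false
set_option linter.style.haveILetI false

namespace H35.OddBase

open Module

/-- An alternating non-degenerate pairing. -/
structure AltPairing (N A : Type*) [CommGroup N] [CommGroup A] where
  β : N →* N →* A
  alt : ∀ x, β x x = 1
  nondeg : ∀ x, (∀ y, β x y = 1) → x = 1

theorem card_monoidHom_le (X K : Type*) [Group X] [Finite X] [Field K] :
    Nat.card (X →* K) ≤ Nat.card X := by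
  classical
  haveI := Fintype.ofFinite X
  have hli := linearIndependent_monoidHom X K
  haveI : Finite (X →* K) := hli.finite
  haveI := Fintype.ofFinite (X →* K)
  have := hli.fintype_card_le_finrank
  rwa [Module.finrank_fintype_fun_eq_card, ← Nat.card_eq_fintype_card,
    ← Nat.card_eq_fintype_card] at this

theorem finite_monoidHom (X K : Type*) [Group X] [Finite X] [Field K] : Finite (X →* K) :=
  (linearIndependent_monoidHom X K).finite

namespace AltPairing

variable {N A : Type*} [CommGroup N] [CommGroup A] (P : AltPairing N A)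

theorem injective : Function.Injective P.β := by
  rw [injective_iff_map_eq_one]
  intro x hx
  exact P.nondeg x fun y => by rw [hx, MonoidHom.one_apply]

theorem antisymm (x y : N) : P.β x y * P.β y x = 1 := by
  have h := P.alt (x * y)
  simp only [map_mul, MonoidHom.mul_apply, P.alt, one_mul, mul_one] at h
  rw [mul_comm]; exact h

theorem symm_eq_one {x y : N} (h : P.β x y = 1) : P.β y x = 1 := by
  have := P.antisymm x y
  rwa [h, one_mul] at this

theorem β_pow_eq_one_iff (x : N) (n : ℕ) : (∀ y, P.β x y ^ n = 1) ↔ x ^ n = 1 := by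
  refine ⟨fun h => P.nondeg _ fun y => ?_, fun h y => ?_⟩
  · rw [map_pow, MonoidHom.pow_apply]; exact h y
  · rw [← MonoidHom.pow_apply, ← map_pow, h, map_one, MonoidHom.one_apply]

/-- The orthogonal of a subgroup. -/
def perp (W : Subgroup N) : Subgroup N where
  carrier := {x | ∀ w ∈ W, P.β x w = 1}
  one_mem' := fun w _ => by rw [map_one, MonoidHom.one_apply]
  mul_mem' := fun {a b} ha hb w hw => by
    rw [map_mul, MonoidHom.mul_apply, ha w hw, hb w hw, one_mul]
  inv_mem' := fun {a} ha w hw => by rw [map_inv, MonoidHom.inv_apply, ha w hw, inv_one]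

/-- Restriction of `β x` to a subgroup. -/
def toHom (W : Subgroup N) : N →* (↥W →* A) where
  toFun x := (P.β x).comp W.subtype
  map_one' := by ext w; simp
  map_mul' x y := by ext w; simp

theorem ker_toHom (W : Subgroup N) : (P.toHom W).ker = P.perp W := by
  ext x
  rw [MonoidHom.mem_ker]
  exact ⟨fun h w hw => DFunLike.congr_fun h ⟨w, hw⟩, fun h => MonoidHom.ext fun w => h w w.2⟩

theorem index_perp_le [Finite N] {K : Type*} [Field K] {ι : A →* K} (hι : Function.Injective ι)
    (W : Subgroup N) : (P.perp W).index ≤ Nat.card W := by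
  rw [← P.ker_toHom, Subgroup.index_ker]
  haveI := finite_monoidHom ↥W K
  refine le_trans ?_ (card_monoidHom_le ↥W K)
  refine Nat.card_le_card_of_injective (fun χ => ι.comp χ.1) fun χ ψ h => ?_
  exact Subtype.ext (MonoidHom.ext fun w => hι (DFunLike.congr_fun h w))

/-- Every character of `N` with values in `A` is given by the pairing. -/
theorem surjective [Finite N] {K : Type*} [Field K] {ι : A →* K} (hι : Function.Injective ι) :
    Function.Surjective P.β := by
  haveI := finite_monoidHom N K
  have hinj : Function.Injective fun χ : N →* A => ι.comp χ := fun χ ψ h =>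
    MonoidHom.ext fun w => hι (DFunLike.congr_fun h w)
  haveI : Finite (N →* A) := Finite.of_injective _ hinj
  exact ((Nat.bijective_iff_injective_and_card P.β).2 ⟨P.injective,
    le_antisymm (Nat.card_le_card_of_injective _ P.injective)
      ((Nat.card_le_card_of_injective _ hinj).trans (card_monoidHom_le N K))⟩).2

/-- A finite abelian group with such a pairing has square order. -/
theorem exists_sq.{u} {A : Type*} [CommGroup A] [IsCyclic A] [Finite A] :
    ∀ (n : ℕ) (N : Type u) [CommGroup N] [Finite N], Nat.card N = n → AltPairing N A →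
      ∃ e, Nat.card N = e ^ 2 := by
  intro n
  induction n using Nat.strong_induction_on with
  | _ n ih =>
    intro N _ _ hn P
    classical
    haveI := Fintype.ofFinite A
    by_cases h1 : Subsingleton N
    · exact ⟨1, by simp [Nat.card_unique]⟩
    obtain ⟨x, hx⟩ := Monoid.exists_orderOf_eq_exponent
      (Monoid.ExponentExists.of_finite (G := N))
    set k := orderOf x with hk
    have hexp : ∀ z : N, z ^ k = 1 := fun z => by rw [hx]; exact Monoid.pow_exponent_eq_one z
    have hk1 : 1 < k := by
      by_contra h
      have : k = 1 := by have := orderOf_pos x; omega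
      exact h1 ⟨fun a b => by
        have ha := hexp a; have hb := hexp b
        rw [this, pow_one] at ha hb; rw [ha, hb]⟩
    have himg : ∀ z : N, Nat.card (P.β z).range ≤ k := fun z => by
      haveI : IsCyclic ↥(P.β z).range := Subgroup.isCyclic _
      obtain ⟨⟨c, hc⟩, hgen⟩ := IsCyclic.exists_ofOrder_eq_natCard (α := ↥(P.β z).range)
      rw [← hgen]
      refine Nat.le_of_dvd (by omega) (orderOf_dvd_of_pow_eq_one ?_)
      obtain ⟨y, rfl⟩ := hc
      exact Subtype.ext ((P.β_pow_eq_one_iff z k).2 (hexp z) y)
    haveI : IsCyclic ↥(P.β x).range := Subgroup.isCyclic _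
    obtain ⟨⟨c, hc⟩, hcgen⟩ := IsCyclic.exists_generator (α := ↥(P.β x).range)
    obtain ⟨y, hy⟩ := hc
    have hco : orderOf c = k := by
      refine Nat.dvd_antisymm (orderOf_dvd_of_pow_eq_one ?_) (orderOf_dvd_of_pow_eq_one ?_)
      · rw [← hy]; exact (P.β_pow_eq_one_iff x k).2 (hexp x) y
      · refine (P.β_pow_eq_one_iff x _).1 fun z => ?_
        obtain ⟨i, hi⟩ := Subgroup.mem_zpowers_iff.1 (hcgen ⟨P.β x z, z, rfl⟩)
        have hi' : c ^ i = P.β x z := congrArg Subtype.val hi
        rw [← hi', ← zpow_natCast, ← zpow_mul, mul_comm, zpow_mul, zpow_natCast,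
          pow_orderOf_eq_one, one_zpow]
    set Z : Subgroup N := (P.β x).ker ⊓ (P.β y).ker with hZ
    have hzero : ∀ i j : ℕ, x ^ i * y ^ j ∈ Z → k ∣ i ∧ k ∣ j := by
      intro i j h
      obtain ⟨h2, h3⟩ := h
      change P.β x (x ^ i * y ^ j) = 1 at h2
      change P.β y (x ^ i * y ^ j) = 1 at h3
      rw [map_mul, map_pow, map_pow, P.alt, one_pow, one_mul, hy] at h2
      rw [map_mul, map_pow, map_pow, P.alt, one_pow, mul_one] at h3
      refine ⟨?_, hco ▸ orderOf_dvd_of_pow_eq_one h2⟩
      have h4 : c * P.β y x = 1 := by rw [← hy]; exact P.antisymm x y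
      rw [eq_inv_of_mul_eq_one_right h4, inv_pow, inv_eq_one] at h3
      exact hco ▸ orderOf_dvd_of_pow_eq_one h3
    let f : ZMod k × ZMod k × ↥Z → N := fun t => x ^ t.1.val * y ^ t.2.1.val * (t.2.2 : N)
    haveI : NeZero k := ⟨by omega⟩
    have hpow : ∀ (z : N) (a : ℕ) (b : ZMod k), (a : ZMod k) = b → z ^ a = z ^ b.val := by
      intro z a b hab
      refine pow_eq_pow_iff_modEq.2 (Nat.ModEq.of_dvd (orderOf_dvd_of_pow_eq_one (hexp z)) ?_)
      rw [← ZMod.natCast_eq_natCast_iff, hab, ZMod.natCast_zmod_val]
    have hf : Function.Injective f := by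
      rintro ⟨a, b, z⟩ ⟨a', b', z'⟩ h
      simp only [f] at h
      have hmem : x ^ (a - a').val * y ^ (b - b').val ∈ Z := by
        have e1 : x ^ (a - a').val * x ^ a'.val = x ^ a.val := by
          rw [← pow_add]; refine hpow x _ a ?_
          rw [Nat.cast_add, ZMod.natCast_zmod_val, ZMod.natCast_zmod_val, sub_add_cancel]
        have e2 : y ^ (b - b').val * y ^ b'.val = y ^ b.val := by
          rw [← pow_add]; refine hpow y _ b ?_
          rw [Nat.cast_add, ZMod.natCast_zmod_val, ZMod.natCast_zmod_val, sub_add_cancel]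
        have : x ^ (a - a').val * y ^ (b - b').val = z'.1 * z.1⁻¹ := by
          rw [← e1, ← e2] at h
          rw [eq_mul_inv_iff_mul_eq]
          have h' : x ^ a'.val * y ^ b'.val * (x ^ (a - a').val * y ^ (b - b').val * z.1) =
              x ^ a'.val * y ^ b'.val * z'.1 := by
            rw [← h]; ac_rfl
          exact mul_left_cancel h'
        rw [this]; exact Z.mul_mem z'.2 (Z.inv_mem z.2)
      obtain ⟨h1, h2⟩ := hzero _ _ hmem
      have ha : a = a' := sub_eq_zero.1 ((ZMod.val_eq_zero _).1
        (Nat.eq_zero_of_dvd_of_lt h1 (ZMod.val_lt _)))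
      have hb : b = b' := sub_eq_zero.1 ((ZMod.val_eq_zero _).1
        (Nat.eq_zero_of_dvd_of_lt h2 (ZMod.val_lt _)))
      subst ha hb
      simp only [Prod.mk.injEq, true_and]
      exact Subtype.ext (mul_left_cancel h)
    have hup : Nat.card N ≤ k * (k * Nat.card Z) := by
      calc Nat.card N = Z.index * Nat.card Z := (Subgroup.index_mul_card Z).symm
        _ ≤ (k * k) * Nat.card Z := by
          refine Nat.mul_le_mul_right _ (Subgroup.index_inf_le.trans ?_)
          rw [Subgroup.index_ker, Subgroup.index_ker]
          exact Nat.mul_le_mul (himg x) (himg y)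
        _ = _ := mul_assoc _ _ _
    have hdown := Nat.card_le_card_of_injective f hf
    rw [Nat.card_prod, Nat.card_prod, Nat.card_zmod] at hdown
    have hcard : Nat.card N = k * (k * Nat.card Z) := le_antisymm hup hdown
    have hfs : Function.Surjective f := ((Nat.bijective_iff_injective_and_card f).2
      ⟨hf, by rw [Nat.card_prod, Nat.card_prod, Nat.card_zmod, hcard]⟩).2
    let PZ : AltPairing ↥Z A :=
      { β := (P.toHom Z).comp Z.subtype
        alt := fun z => P.alt z.1
        nondeg := fun z hz => Subtype.ext (P.nondeg _ fun w => by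
          obtain ⟨⟨a, b, z'⟩, rfl⟩ := hfs w
          have hx0 : P.β z.1 x = 1 := P.symm_eq_one z.2.1
          have hy0 : P.β z.1 y = 1 := P.symm_eq_one z.2.2
          have hz0 : P.β z.1 z'.1 = 1 := hz z'
          simp only [f, map_mul, map_pow, hx0, hy0, hz0, one_pow, one_mul]) }
    have hpos : 0 < Nat.card ↥Z := Nat.card_pos
    obtain ⟨e, he⟩ := ih (Nat.card ↥Z) (by
      have h2k : 2 ≤ k * k := le_trans hk1 (Nat.le_mul_self k)
      rw [← hn, hcard, ← mul_assoc]
      exact lt_mul_left hpos (by omega)) ↥Z rfl PZ
    exact ⟨k * e, by rw [hcard, he]; ring⟩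

/-- Linear maps commuting up to the pairing are independent. -/
theorem card_le_finrank_sq [Finite N] {K V : Type*} [Field K] [AddCommGroup V] [Module K V]
    [FiniteDimensional K V] {ι : A →* K} (hι : Function.Injective ι) (T : N → Module.End K V)
    (hT : ∀ x y, T x * T y = ι (P.β x y) • (T y * T x)) (hu : ∀ x, IsUnit (T x)) [Nontrivial V] :
    Nat.card N ≤ finrank K V * finrank K V := by
  classical
  haveI := Fintype.ofFinite N
  have hli : LinearIndependent K T := by
    rw [Fintype.linearIndependent_iff]
    intro c hc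
    have key : ∀ y, ∑ x, (c x * ι (P.β y x)) • T x = 0 := by
      intro y
      have h : (∑ x, (c x * ι (P.β y x)) • T x) * T y = 0 := by
        calc (∑ x, (c x * ι (P.β y x)) • T x) * T y
            = ∑ x, c x • (T y * T x) := by
              rw [Finset.sum_mul]; refine Finset.sum_congr rfl fun x _ => ?_
              rw [mul_smul, smul_mul_assoc, smul_mul_assoc, ← hT]
          _ = T y * ∑ x, c x • T x := by simp only [Finset.mul_sum, mul_smul_comm]
          _ = 0 := by rw [hc, mul_zero]
      exact (hu y).mul_left_eq_zero.1 h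
    intro i
    by_contra hci
    obtain ⟨φ, hφ⟩ : ∃ φ : Module.End K V →ₗ[K] K, φ (T i) ≠ 0 := by
      by_contra h
      push Not at h
      exact (hu i).ne_zero (Module.forall_dual_apply_eq_zero_iff K _ |>.1 h)
    have hind := Fintype.linearIndependent_iff.1
      ((linearIndependent_monoidHom N K).comp (fun x : N => ι.comp (P.β x)) fun a b hab =>
        P.injective (MonoidHom.ext fun z => hι (DFunLike.congr_fun hab z)))
    have := hind (fun x => c x * φ (T x)) ?_ i
    · exact (mul_ne_zero hci hφ) this
    · funext y
      simp only [Finset.sum_apply, Pi.smul_apply, Function.comp_apply, MonoidHom.coe_comp,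
        smul_eq_mul, Pi.zero_apply]
      have h := congrArg φ (key y⁻¹)
      rw [map_sum, map_zero] at h
      rw [← h]
      refine Finset.sum_congr rfl fun x _ => ?_
      rw [map_smul, smul_eq_mul]
      have : P.β x y = P.β y⁻¹ x := by
        rw [map_inv, MonoidHom.inv_apply, eq_inv_iff_mul_eq_one]; exact P.antisymm x y
      rw [this]; ring
  have := hli.fintype_card_le_finrank
  rwa [Module.finrank_linearMap, ← Nat.card_eq_fintype_card] at this

end AltPairing

end H35.OddBase
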