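import Cfsg.Agent.H35.OddBase.Primitive
import Cfsg.Agent.H34.EndDecomp

/-!
Bases of size two for odd order completely reducible actions.
-/

set_option autoImplicit false
set_option linter.style.haveILetI false
set_option linter.unusedSectionVars false

namespace H35.OddBase

open MulAction

/-- Atoms of the idempotents of a finite commutative ring. -/
theorem exists_atom {K : Type} [CommRing K] [Finite K] {e : K} (he : e * e = e) (he0 : e ≠ 0) :
    ∃ a : K, a * a = a ∧ a ≠ 0 ∧ a * e = a ∧ ∀ f : K, f * f = f → a * f = 0 ∨ a * f = a := by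
  classical
  haveI := Fintype.ofFinite K
  let below : Finset K := Finset.univ.filter fun f => f * f = f ∧ f ≠ 0 ∧ f * e = f
  let size : K → ℕ := fun f => (Finset.univ.image fun r => f * r).card
  obtain ⟨a, ha, hmin⟩ := below.exists_min_image size ⟨e, by simp [below, he, he0]⟩
  simp only [below, Finset.mem_filter, Finset.mem_univ, true_and] at ha hmin
  obtain ⟨haid, ha0, hae⟩ := ha
  refine ⟨a, haid, ha0, hae, fun f hf => ?_⟩
  by_cases h0 : a * f = 0
  · exact Or.inl h0
  right
  have h1 := hmin (a * f) ⟨by rw [mul_mul_mul_comm, haid, hf], h0, by rw [mul_right_comm, hae]⟩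
  have hsub : (Finset.univ.image fun r => a * f * r) ⊆ Finset.univ.image fun r => a * r := by
    intro t ht
    obtain ⟨r, -, rfl⟩ := Finset.mem_image.1 ht
    exact Finset.mem_image.2 ⟨f * r, Finset.mem_univ _, (mul_assoc _ _ _).symm⟩
  have heq := Finset.eq_of_subset_of_card_le hsub h1
  have hmem : a ∈ Finset.univ.image fun r => a * f * r := by
    rw [heq]; exact Finset.mem_image.2 ⟨1, Finset.mem_univ _, mul_one a⟩
  obtain ⟨r, -, hr⟩ := Finset.mem_image.1 hmem
  calc a * f = a * f * r * f := by rw [hr]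
    _ = a * (f * f) * r := by ring
    _ = a := by rw [hf, hr]

/-- The imprimitive case. -/
theorem hasPair_of_decomp {G V : Type} [Group G] [Finite G] [AddCommGroup V] [Finite V]
    [DistribMulAction G V] (hodd : Odd (Nat.card G)) (hirr : IsIrr G V)
    (E : Finset (AddMonoid.End V)) (hE : H34.IsDecomp (DistribMulAction.toAddMonoidEnd G V) E)
    (hE2 : 1 < E.card) (hpair : ∀ m < Nat.card V, PairUpTo m) (hset : ∀ m < Nat.card V, SetUpTo m) :
    HasPair G V := by
  classical
  set φ := DistribMulAction.toAddMonoidEnd G V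
  let Ω := {e : AddMonoid.End V // e ∈ E}
  letI : MulAction G Ω :=
    { smul := fun g e => ⟨φ g * e.1 * φ g⁻¹, hE.conj g e.1 e.2⟩
      one_smul := fun e => Subtype.ext (H34.conj_one_arg φ e.1)
      mul_smul := fun g h e => Subtype.ext (H34.conj_conj φ g h e.1).symm }
  have hsm : ∀ (g : G) (e : Ω) (x : V), (g • e).1 (g • x) = g • e.1 x := fun g e x => by
    show g • e.1 (g⁻¹ • g • x) = g • e.1 x
    rw [inv_smul_smul]
  have hidem : ∀ (e : Ω) (x : V), e.1 (e.1 x) = e.1 x := fun e x => DFunLike.congr_fun (hE.idem e.1 e.2) x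
  have horth : ∀ (e f : Ω), e ≠ f → ∀ x : V, e.1 (f.1 x) = 0 := fun e f h x =>
    DFunLike.congr_fun (hE.orth e.1 e.2 f.1 f.2 fun h' => h (Subtype.ext h')) x
  have hsum : ∀ x : V, ∑ e : Ω, e.1 x = x := fun x => by
    have h := DFunLike.congr_fun hE.sum_eq x
    rw [← Finset.sum_coe_sort] at h
    let ev : AddMonoid.End V →+ V := AddMonoidHom.mk' (fun f => f x) fun _ _ => rfl
    exact (map_sum ev (fun e : Ω => e.1) _).symm.trans h
  -- few blocks
  have hcard : Nat.card Ω < Nat.card V := by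
    have hch : ∀ e : Ω, ∃ x : V, x ≠ 0 ∧ e.1 x = x := fun e => by
      obtain ⟨x, hx⟩ : ∃ x, e.1 x ≠ 0 := by
        by_contra h
        push Not at h
        exact hE.ne_zero e.1 e.2 (AddMonoidHom.ext h)
      exact ⟨e.1 x, hx, hidem e x⟩
    choose v hv0 hv using hch
    refine lt_of_le_of_lt (Nat.card_le_card_of_injective (fun e => (⟨v e, hv0 e⟩ : {x : V // x ≠ 0}))
      fun e f h => ?_) (Finite.card_subtype_lt (x := (0 : V)) fun h => h rfl)
    by_contra hne
    have h' : v e = v f := congrArg Subtype.val h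
    exact hv0 e (by rw [← hv e]; conv_lhs => rw [h', ← hv f]
                    exact horth e f hne _)
  let F : Ω → Set (V × V) := fun e => {p | e.1 p.1 = p.1 ∧ e.1 p.2 = p.2}
  have hF : ∀ (g : G) (e : Ω), ∀ p ∈ F e, g • p ∈ F (g • e) := fun g e p hp =>
    ⟨by rw [Prod.smul_fst, hsm, hp.1], by rw [Prod.smul_snd, hsm, hp.2]⟩
  let Triv : G → Ω → Prop := fun g e => ∀ x : V, e.1 x = x → g • x = x
  have hTriv : ∀ (t g : G) (e : Ω), Triv (t⁻¹ * g * t) e → Triv g (t • e) := by
    intro t g e h x hx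
    have h1 : e.1 (t⁻¹ • x) = t⁻¹ • x := by
      conv_rhs => rw [← hx]
      rw [show x = t • t⁻¹ • x from (smul_inv_smul t x).symm, hsm, inv_smul_smul, inv_smul_smul]
    have := h (t⁻¹ • x) h1
    rw [mul_smul, mul_smul, smul_inv_smul] at this
    exact MulAction.injective t⁻¹ this
  have hreg : ∀ e : Ω, ∃ a b : V × V, a ∈ F e ∧ b ∈ F e ∧
      (∀ g : G, g • e = e → g • a = a → Triv g e) ∧
      (∀ g : G, g • e = e → g • b = b → Triv g e) ∧
      ∀ g : G, g • e = e → g • a ≠ b := by
    intro e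
    let W : AddSubgroup V := (e.1 : V →+ V).eqLocus (AddMonoidHom.id V)
    have hWmem : ∀ x, x ∈ W ↔ e.1 x = x := fun _ => Iff.rfl
    let H := stabilizer G e
    have hWinv : ∀ (g : ↥H) (x : V), x ∈ W → (g : G) • x ∈ W := fun g x hx => by
      rw [hWmem] at hx ⊢
      have h := hsm g e x
      rw [show (g : G) • e = e from g.2, hx] at h
      exact h
    letI : DistribMulAction ↥H ↥W :=
      { smul := fun g x => ⟨(g : G) • x.1, hWinv g x.1 x.2⟩
        one_smul := fun x => Subtype.ext (one_smul G x.1)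
        mul_smul := fun g h x => Subtype.ext (mul_smul (g : G) (h : G) x.1)
        smul_zero := fun g => Subtype.ext (smul_zero (g : G))
        smul_add := fun g x y => Subtype.ext (smul_add (g : G) x.1 y.1) }
    haveI : Nontrivial ↥W := by
      obtain ⟨x, hx⟩ : ∃ x, e.1 x ≠ 0 := by
        by_contra h
        push Not at h
        exact hE.ne_zero e.1 e.2 (AddMonoidHom.ext h)
      exact ⟨⟨⟨e.1 x, hidem e x⟩, 0, fun h => hx (congrArg Subtype.val h)⟩⟩
    have hWirr : IsIrr ↥H ↥W := by
      refine ⟨inferInstance, fun U hU => ?_⟩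
      by_cases hU0 : U = ⊥
      · exact Or.inl hU0
      right
      let U' : AddSubgroup V := AddSubgroup.closure {x | ∃ g : G, ∃ u ∈ U, g • (u : V) = x}
      have hU' : ∀ g : G, ∀ x ∈ U', g • x ∈ U' := by
        intro g x hx
        induction hx using AddSubgroup.closure_induction with
        | mem x hx =>
          obtain ⟨h, u, hu, rfl⟩ := hx
          exact AddSubgroup.subset_closure ⟨g * h, u, hu, mul_smul _ _ _⟩
        | zero => rw [smul_zero]; exact zero_mem _
        | add x y _ _ hx hy => rw [smul_add]; exact add_mem hx hy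
        | neg x _ hx => rw [smul_neg]; exact neg_mem hx
      have hU'top : U' = ⊤ := (hirr.2 U' hU').resolve_left fun h => hU0 ((AddSubgroup.eq_bot_iff_forall _).2
        fun u hu => Subtype.ext (by
          have : (u : V) ∈ U' := AddSubgroup.subset_closure ⟨1, u, hu, one_smul _ _⟩
          rw [h, AddSubgroup.mem_bot] at this
          exact this))
      refine (AddSubgroup.eq_top_iff' _).2 fun w => ?_
      have key : ∀ x ∈ U', (⟨e.1 x, hidem e x⟩ : ↥W) ∈ U := by
        intro x hx
        induction hx using AddSubgroup.closure_induction with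
        | mem x hx =>
          obtain ⟨g, u, hu, rfl⟩ := hx
          by_cases hg : g • e = e
          · have h := hU ⟨g, hg⟩ u hu
            have heq : (⟨e.1 (g • (u : V)), hidem e _⟩ : ↥W) = (⟨g, hg⟩ : ↥H) • u :=
              Subtype.ext (by
                show e.1 (g • (u : V)) = g • (u : V)
                exact hWinv ⟨g, hg⟩ u u.2)
            rw [heq]; exact h
          · have h := hsm g e u
            rw [(hWmem u).1 u.2] at h
            have heq : (⟨e.1 (g • (u : V)), hidem e _⟩ : ↥W) = 0 := Subtype.ext (by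
              show e.1 (g • (u : V)) = 0
              rw [← h]; exact horth e (g • e) (Ne.symm hg) _)
            rw [heq]; exact zero_mem _
        | zero =>
          have heq : (⟨e.1 0, hidem e _⟩ : ↥W) = 0 := Subtype.ext (map_zero e.1)
          rw [heq]; exact zero_mem _
        | add x y _ _ hx hy =>
          have heq : (⟨e.1 (x + y), hidem e _⟩ : ↥W) = ⟨e.1 x, hidem e x⟩ + ⟨e.1 y, hidem e y⟩ :=
            Subtype.ext (map_add e.1 x y)
          rw [heq]; exact add_mem hx hy
        | neg x _ hx =>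
          have heq : (⟨e.1 (-x), hidem e _⟩ : ↥W) = -⟨e.1 x, hidem e x⟩ := Subtype.ext (map_neg e.1 x)
          rw [heq]; exact neg_mem hx
      have h := key w (hU'top ▸ AddSubgroup.mem_top _)
      have heq : (⟨e.1 (w : V), hidem e _⟩ : ↥W) = w := Subtype.ext w.2
      rwa [heq] at h
    have hlt : Nat.card ↥W < Nat.card V := by
      have hΩ : 1 < Fintype.card Ω := by rw [Fintype.card_coe]; exact hE2
      obtain ⟨f, hf⟩ := Fintype.exists_ne_of_one_lt_card hΩ e
      obtain ⟨x, hx⟩ : ∃ x, f.1 x ≠ 0 := by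
        by_contra h
        push Not at h
        exact hE.ne_zero f.1 f.2 (AddMonoidHom.ext h)
      refine Finite.card_subtype_lt (x := f.1 x) fun h => hx ?_
      rw [← (hWmem _).1 h]; exact horth e f (Ne.symm hf) x
    have hHodd : Odd (Nat.card ↥H) := hodd.of_dvd_nat (Subgroup.card_subgroup_dvd_card H)
    obtain ⟨p, q, hp, hq, hpq⟩ :=
      (hpair _ hlt ↥H ↥W hHodd hWirr.isCR le_rfl).two_orbits hHodd
    refine ⟨(p.1.1, p.2.1), (q.1.1, q.2.1), ⟨p.1.2, p.2.2⟩, ⟨q.1.2, q.2.2⟩, fun g hg h x hx => ?_,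
      fun g hg h x hx => ?_, fun g hg h => ?_⟩
    · rw [Prod.smul_mk, Prod.mk.injEq] at h
      exact congrArg Subtype.val (hp ⟨g, hg⟩ (Prod.ext (Subtype.ext h.1) (Subtype.ext h.2)) ⟨x, hx⟩)
    · rw [Prod.smul_mk, Prod.mk.injEq] at h
      exact congrArg Subtype.val (hq ⟨g, hg⟩ (Prod.ext (Subtype.ext h.1) (Subtype.ext h.2)) ⟨x, hx⟩)
    · rw [Prod.smul_mk, Prod.mk.injEq] at h
      exact hpq ⟨g, hg⟩ (Prod.ext (Subtype.ext h.1) (Subtype.ext h.2))
  obtain ⟨c, hc, hcfix⟩ := combine (hset _ hcard G Ω hodd le_rfl) F hF Triv hTriv hreg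
  refine ⟨∑ e, (c e).1, ∑ e, (c e).2, fun g h1 h2 x => ?_⟩
  have hcomp : ∀ (e : Ω) (d : Ω → V), (∀ f, f.1 (d f) = d f) → e.1 (∑ f, d f) = d e := by
    intro e d hd
    rw [map_sum, Finset.sum_eq_single e (fun f _ hf => by rw [← hd f]; exact horth e f (Ne.symm hf) _)
      (fun h => absurd (Finset.mem_univ e) h), hd e]
  have hall : ∀ e, g • e = e ∧ Triv g e := by
    refine hcfix g fun e => ?_
    have e1 := hsm g e (∑ f, (c f).1)
    rw [h1, hcomp _ _ fun f => (hc f).1, hcomp _ _ fun f => (hc f).1] at e1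
    have e2 := hsm g e (∑ f, (c f).2)
    rw [h2, hcomp _ _ fun f => (hc f).2, hcomp _ _ fun f => (hc f).2] at e2
    exact Prod.ext e1.symm e2.symm
  conv_lhs => rw [← hsum x]
  rw [Finset.smul_sum]
  conv_rhs => rw [← hsum x]
  exact Finset.sum_congr rfl fun e _ => (hall e).2 _ (hidem e x)

/-- The irreducible faithful case. -/
theorem hasPair_of_irr {G V : Type} [Group G] [Finite G] [AddCommGroup V] [Finite V]
    [DistribMulAction G V] [FaithfulSMul G V] (hodd : Odd (Nat.card G)) (hirr : IsIrr G V)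
    (hpair : ∀ m < Nat.card V, PairUpTo m) (hset : ∀ m < Nat.card V, SetUpTo m) : HasPair G V := by
  classical
  haveI := hirr.1
  haveI : Group.IsSolvable G := H16.FT.oddOrder hodd
  haveI : Finite (Subgroup G) := Finite.of_injective _ SetLike.coe_injective
  haveI : Finite (AddMonoid.End V) := Finite.of_injective (fun f => (f : V → V)) DFunLike.coe_injective
  by_cases hprim : H34.IsPrim (DistribMulAction.toAddMonoidEnd G V)
  swap
  · unfold H34.IsPrim at hprim
    push Not at hprim
    obtain ⟨E, hE, hE2⟩ := hprim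
    exact hasPair_of_decomp hodd hirr E hE hE2 hpair hset
  obtain ⟨A, ⟨hAn, hAc⟩, hAmax⟩ := WellFounded.has_min (r := (· > ·)) wellFounded_gt
    {A : Subgroup G | A.Normal ∧ IsMulCommutative ↥A}
    ⟨⊥, inferInstance, ⟨⟨fun a b => Subsingleton.elim _ _⟩⟩⟩
  set φ := DistribMulAction.toAddMonoidEnd G V with hφ
  let K0 : Subring (AddMonoid.End V) := Subring.closure (φ '' (A : Set G))
  haveI : IsMulCommutative ↥K0 := Subring.isMulCommutative_closure (by
    rintro _ ⟨a, ha, rfl⟩ _ ⟨b, hb, rfl⟩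
    rw [← map_mul, ← map_mul]
    exact congrArg φ (congrArg Subtype.val (mul_comm' (⟨a, ha⟩ : ↥A) ⟨b, hb⟩)))
  letI : CommRing ↥K0 := { (inferInstance : Ring ↥K0) with mul_comm := fun a b => mul_comm' a b }
  haveI : Finite ↥K0 := Subtype.finite
  have hconj : ∀ (g : G), ∀ k ∈ K0, φ g * k * φ g⁻¹ ∈ K0 := by
    intro g k hk
    induction hk using Subring.closure_induction with
    | mem k hk =>
      obtain ⟨a, ha, rfl⟩ := hk
      exact Subring.subset_closure ⟨g * a * g⁻¹, hAn.conj_mem a ha g, by rw [map_mul, map_mul]⟩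
    | zero => rw [mul_zero, zero_mul]; exact zero_mem _
    | one => rw [mul_one, H34.map_mul_inv_cancel']; exact one_mem _
    | add x y _ _ hx hy => rw [mul_add, add_mul]; exact add_mem hx hy
    | neg x _ hx => rw [mul_neg, neg_mul]; exact neg_mem hx
    | mul x y _ _ hx hy => rw [← H34.conj_mul φ g x y]; exact mul_mem hx hy
  -- no nilpotent elements
  have hred : ∀ k : ↥K0, IsNilpotent k → k = 0 := by
    intro k hk
    let U : AddSubgroup V :=
      { carrier := {v | ∀ n : ↥K0, IsNilpotent n → n.1 v = 0}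
        zero_mem' := fun n _ => map_zero n.1
        add_mem' := fun ha hb n hn => by rw [map_add, ha n hn, hb n hn, add_zero]
        neg_mem' := fun ha n hn => by rw [map_neg, ha n hn, neg_zero] }
    have hUinv : ∀ g : G, ∀ v ∈ U, g • v ∈ U := by
      intro g v hv n hn
      obtain ⟨j, hj⟩ := hn
      let m : ↥K0 := ⟨φ g⁻¹ * n.1 * φ g⁻¹⁻¹, hconj g⁻¹ n.1 n.2⟩
      have hm : IsNilpotent m := by
        refine ⟨j, Subtype.ext ?_⟩
        have hpw : ∀ i : ℕ, (φ g⁻¹ * n.1 * φ g⁻¹⁻¹) ^ i = φ g⁻¹ * n.1 ^ i * φ g⁻¹⁻¹ := by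
          intro i
          induction i with
          | zero => rw [pow_zero, pow_zero, mul_one, H34.map_mul_inv_cancel']
          | succ i ih => rw [pow_succ, pow_succ, ih, H34.conj_mul]
        rw [SubmonoidClass.coe_pow, hpw, ← SubmonoidClass.coe_pow, hj]
        simp
      have h := hv m hm
      change g⁻¹ • n.1 (g⁻¹⁻¹ • v) = 0 at h
      rw [inv_inv, smul_eq_zero_iff_eq] at h
      exact h
    rcases hirr.2 U hUinv with h | h
    · exfalso
      -- a vector with the smallest orbit under `K0` is killed by all nilpotents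
      haveI := Fintype.ofFinite V
      haveI := Fintype.ofFinite ↥K0
      obtain ⟨v, hv, hmin⟩ := (Finset.univ.filter fun v : V => v ≠ 0).exists_min_image
        (fun v => (Finset.univ.image fun k : ↥K0 => k.1 v).card) (by
          obtain ⟨x, hx⟩ := exists_ne (0 : V)
          exact ⟨x, by simp [hx]⟩)
      have hv0 : v ≠ 0 := (Finset.mem_filter.1 hv).2
      have hvU : v ∈ U := by
        intro n hn
        by_contra hne
        have h1 := hmin (n.1 v) (Finset.mem_filter.2 ⟨Finset.mem_univ _, hne⟩)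
        have hsub : (Finset.univ.image fun k : ↥K0 => k.1 (n.1 v)) ⊆
            Finset.univ.image fun k : ↥K0 => k.1 v := by
          intro t ht
          obtain ⟨r, -, rfl⟩ := Finset.mem_image.1 ht
          exact Finset.mem_image.2 ⟨r * n, Finset.mem_univ _, rfl⟩
        have hmem : v ∈ Finset.univ.image fun k : ↥K0 => k.1 (n.1 v) := by
          rw [Finset.eq_of_subset_of_card_le hsub h1]
          exact Finset.mem_image.2 ⟨1, Finset.mem_univ _, rfl⟩
        obtain ⟨r, -, hr⟩ := Finset.mem_image.1 hmem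
        obtain ⟨j, hj⟩ := (Commute.all r n).isNilpotent_mul_left hn
        have hfix : ∀ i : ℕ, ((r * n) ^ i : ↥K0).1 v = v := by
          intro i
          induction i with
          | zero => rfl
          | succ i ih =>
            rw [pow_succ]
            show ((r * n) ^ i : ↥K0).1 (r.1 (n.1 v)) = v
            rw [hr, ih]
        exact hv0 (by rw [← hfix j, hj]; rfl)
      rw [h, AddSubgroup.mem_bot] at hvU
      exact hv0 hvU
    · exact Subtype.ext (AddMonoidHom.ext fun v => (h ▸ AddSubgroup.mem_top v : v ∈ U) k hk)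
  haveI : Nontrivial ↥K0 := ⟨⟨0, 1, fun h => by
    obtain ⟨x, hx⟩ := exists_ne (0 : V)
    exact hx (congrArg (fun k : ↥K0 => k.1 x) h).symm⟩⟩
  -- no idempotents
  have hid : ∀ e : ↥K0, e * e = e → e = 0 ∨ e = 1 := by
    intro e he
    haveI := Fintype.ofFinite ↥K0
    let E : Finset ↥K0 := Finset.univ.filter fun a => a * a = a ∧ a ≠ 0 ∧
      ∀ f : ↥K0, f * f = f → a * f = 0 ∨ a * f = a
    have hEmem : ∀ a, a ∈ E ↔ a * a = a ∧ a ≠ 0 ∧ ∀ f : ↥K0, f * f = f → a * f = 0 ∨ a * f = a :=
      fun a => by simp [E]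
    have horth : ∀ a ∈ E, ∀ b ∈ E, a ≠ b → a * b = 0 := by
      intro a ha b hb hab
      rw [hEmem] at ha hb
      refine (ha.2.2 b hb.1).resolve_right fun h => ?_
      rcases hb.2.2 a ha.1 with h' | h'
      · exact ha.2.1 (by rw [← h, mul_comm a b, h'])
      · exact hab (by rw [← h, mul_comm a b, h'])
    have hs : ∑ a ∈ E, a = 1 := by
      by_contra hne
      set s := ∑ a ∈ E, a with hsdef
      have hmul : ∀ a ∈ E, a * s = a := fun a ha => by
        rw [hsdef, Finset.mul_sum, Finset.sum_eq_single a (fun b hb hba => horth a ha b hb (Ne.symm hba))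
          (fun h => absurd ha h), ((hEmem a).1 ha).1]
      have hss : s * s = s := by
        nth_rewrite 1 [hsdef]
        rw [Finset.sum_mul]
        exact Finset.sum_congr rfl hmul
      obtain ⟨a, ha1, ha2, ha3, ha4⟩ := exists_atom (e := 1 - s) (by
        rw [sub_mul, one_mul, mul_sub, mul_one, hss]; ring) (sub_ne_zero.2 (Ne.symm hne))
      rw [mul_sub, mul_one, hmul a ((hEmem a).2 ⟨ha1, ha2, ha4⟩), sub_self] at ha3
      exact ha2 ha3.symm
    have hdec : H34.IsDecomp φ (E.map ⟨Subtype.val, Subtype.val_injective⟩) := by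
      refine ⟨?_, ?_, ?_, ?_, ?_⟩
      · simp only [Finset.mem_map, Function.Embedding.coeFn_mk]
        rintro _ ⟨a, ha, rfl⟩
        exact congrArg Subtype.val ((hEmem a).1 ha).1
      · simp only [Finset.mem_map, Function.Embedding.coeFn_mk]
        rintro _ ⟨a, ha, rfl⟩ h
        exact ((hEmem a).1 ha).2.1 (Subtype.ext h)
      · simp only [Finset.mem_map, Function.Embedding.coeFn_mk]
        rintro _ ⟨a, ha, rfl⟩ _ ⟨b, hb, rfl⟩ hab
        exact congrArg Subtype.val (horth a ha b hb fun h => hab (h ▸ rfl))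
      · rw [Finset.sum_map, Function.Embedding.coeFn_mk]
        have := congrArg Subtype.val hs
        rw [AddSubmonoidClass.coe_finset_sum] at this
        exact this
      · intro g
        simp only [Finset.mem_map, Function.Embedding.coeFn_mk]
        rintro _ ⟨a, ha, rfl⟩
        let c : ∀ h : G, ↥K0 → ↥K0 := fun h x => ⟨φ h * x.1 * φ h⁻¹, hconj h x.1 x.2⟩
        have hcm : ∀ h x y, c h (x * y) = c h x * c h y := fun h x y =>
          Subtype.ext (H34.conj_mul φ h x.1 y.1).symm
        have hcc : ∀ h x, c h (c h⁻¹ x) = x := fun h x => Subtype.ext (by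
          show φ h * (φ h⁻¹ * x.1 * φ h⁻¹⁻¹) * φ h⁻¹ = x.1
          rw [H34.conj_conj, mul_inv_cancel, H34.conj_one_arg])
        have hc0 : ∀ h, c h 0 = 0 := fun h => Subtype.ext (by
          show φ h * 0 * φ h⁻¹ = 0
          rw [mul_zero, zero_mul])
        obtain ⟨ha1, ha2, ha3⟩ := (hEmem a).1 ha
        refine ⟨c g a, (hEmem _).2 ⟨by rw [← hcm, ha1], fun h => ha2 ?_, fun f hf => ?_⟩, rfl⟩
        · have h2 := congrArg (c g⁻¹) h
          rw [hc0] at h2
          have h3 := hcc g⁻¹ a
          rw [inv_inv] at h3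
          rwa [h3] at h2
        · rcases ha3 (c g⁻¹ f) (by rw [← hcm, hf]) with h | h
          · left; rw [← hcc g f, ← hcm, h, hc0]
          · right; rw [← hcc g f, ← hcm, h]
    have hle := hprim _ hdec
    rw [Finset.card_map] at hle
    obtain ⟨a, hEa⟩ : ∃ a, E = {a} := by
      refine Finset.card_eq_one.1 (le_antisymm hle (Finset.card_pos.2 ?_))
      by_contra h
      rw [Finset.not_nonempty_iff_eq_empty] at h
      rw [h, Finset.sum_empty] at hs
      exact zero_ne_one hs
    rw [hEa, Finset.sum_singleton] at hs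
    have ha := ((hEmem a).1 (hEa ▸ Finset.mem_singleton_self a)).2.2 e he
    rw [hs, one_mul] at ha
    exact ha
  have hfield : IsField ↥K0 := by
    refine ⟨⟨0, 1, zero_ne_one⟩, mul_comm, fun {a} ha => ?_⟩
    obtain ⟨j, hj, hj2⟩ := H34.exists_pow_idem a
    rcases hid _ hj2 with h | h
    · exact absurd (hred a ⟨j, h⟩) ha
    · exact ⟨a ^ (j - 1), by rw [← pow_succ', Nat.sub_add_cancel hj, h]⟩
  letI : Field ↥K0 := hfield.toField
  letI : Module ↥K0 V := Module.compHom V K0.subtype
  let σf : G → ↥K0 ≃+* ↥K0 := fun g =>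
    { toFun := fun x => ⟨φ g * x.1 * φ g⁻¹, hconj g x.1 x.2⟩
      invFun := fun x => ⟨φ g⁻¹ * x.1 * φ g⁻¹⁻¹, hconj g⁻¹ x.1 x.2⟩
      left_inv := fun x => Subtype.ext (by
        show φ g⁻¹ * (φ g * x.1 * φ g⁻¹) * φ g⁻¹⁻¹ = x.1
        rw [H34.conj_conj, inv_mul_cancel, H34.conj_one_arg])
      right_inv := fun x => Subtype.ext (by
        show φ g * (φ g⁻¹ * x.1 * φ g⁻¹⁻¹) * φ g⁻¹ = x.1
        rw [H34.conj_conj, mul_inv_cancel, H34.conj_one_arg])
      map_mul' := fun x y => Subtype.ext (H34.conj_mul φ g x.1 y.1).symm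
      map_add' := fun x y => Subtype.ext (by
        show φ g * (x.1 + y.1) * φ g⁻¹ = φ g * x.1 * φ g⁻¹ + φ g * y.1 * φ g⁻¹
        rw [mul_add, add_mul]) }
  let S : Frame G V ↥K0 :=
    { A := A
      normal := hAn
      σ :=
        { toFun := σf
          map_one' := RingEquiv.ext fun x => Subtype.ext (H34.conj_one_arg φ x.1)
          map_mul' := fun g h => RingEquiv.ext fun x => Subtype.ext (H34.conj_conj φ g h x.1).symm }
      semi := fun g c v => by
        show g • c.1 v = g • c.1 (g⁻¹ • g • v)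
        rw [inv_smul_smul]
      ι :=
        { toFun := fun a => ⟨φ (a : G), Subring.subset_closure ⟨a, a.2, rfl⟩⟩
          map_one' := Subtype.ext (map_one φ)
          map_mul' := fun a b => Subtype.ext (map_mul φ (a : G) (b : G)) }
      scal := fun a v => rfl
      maximal := fun M hM hle hc => by
        rcases hle.eq_or_lt with h | h
        · exact h.symm
        · exact absurd h (hAmax M ⟨hM, hc⟩) }
  exact S.hasPair hodd hpair

/-- The inductive step for bases of size two. -/
theorem pairUpTo_step (n : ℕ) (hpair : ∀ m < n, PairUpTo m) (hset : ∀ m < n, SetUpTo m) :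
    PairUpTo n := by
  intro G V _ _ _ _ _ hodd hcr hle
  rcases hle.lt_or_eq with hlt | heq
  · exact hpair _ hlt G V hodd hcr le_rfl
  subst heq
  classical
  by_cases hirr : IsIrr G V
  · -- pass to the faithful quotient
    let f : G →* Equiv.Perm V := MulAction.toPermHom G V
    let Q := G ⧸ f.ker
    have hwd : ∀ a b : G, a⁻¹ * b ∈ f.ker → ∀ v : V, a • v = b • v := fun a b h v => by
      have h1 : (a⁻¹ * b) • v = v := DFunLike.congr_fun (MonoidHom.mem_ker.1 h) v
      rw [mul_smul, inv_smul_eq_iff] at h1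
      exact h1.symm
    letI : DistribMulAction Q V :=
      { smul := fun q v => Quotient.liftOn' q (fun g => g • v)
          fun a b h => hwd a b (QuotientGroup.leftRel_apply.1 h) v
        one_smul := fun v => one_smul G v
        mul_smul := fun q r v => by
          induction q using QuotientGroup.induction_on
          induction r using QuotientGroup.induction_on
          exact mul_smul _ _ v
        smul_zero := fun q => by induction q using QuotientGroup.induction_on; exact smul_zero _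
        smul_add := fun q v w => by
          induction q using QuotientGroup.induction_on; exact smul_add _ v w }
    haveI : FaithfulSMul Q V := ⟨fun {a b} h => by
      induction a using QuotientGroup.induction_on
      induction b using QuotientGroup.induction_on
      refine QuotientGroup.eq.2 (MonoidHom.mem_ker.2 (Equiv.ext fun v => ?_))
      show ((_ : G)⁻¹ * _) • v = v
      rw [mul_smul, inv_smul_eq_iff]; exact (h v).symm⟩
    have hirrQ : IsIrr Q V := ⟨hirr.1, fun U hU => hirr.2 U fun g v hv => hU (g : Q) v hv⟩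
    obtain ⟨v, w, hvw⟩ := hasPair_of_irr (hodd.of_dvd_nat (Subgroup.card_quotient_dvd_card _)) hirrQ
      hpair hset
    exact ⟨v, w, fun g h1 h2 x => hvw (g : Q) h1 h2 x⟩
  by_cases hsub : Subsingleton V
  · exact ⟨0, 0, fun g _ _ x => Subsingleton.elim _ _⟩
  rw [not_subsingleton_iff_nontrivial] at hsub
  unfold IsIrr at hirr
  push Not at hirr
  obtain ⟨U, hU, hU0, hU1⟩ := hirr hsub
  obtain ⟨W, hW, hb, ht⟩ := hcr U hU
  have key : ∀ (U W : AddSubgroup V), (∀ g : G, ∀ v ∈ U, g • v ∈ U) → (∀ g : G, ∀ v ∈ W, g • v ∈ W) →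
      U ⊓ W = ⊥ → U ⊔ W = ⊤ → W ≠ ⊥ →
      ∃ v w : V, v ∈ U ∧ w ∈ U ∧ ∀ g : G, g • v = v → g • w = w → ∀ x ∈ U, g • x = x := by
    intro U W hU hW hb ht hW0
    letI : DistribMulAction G ↥U :=
      { smul := fun g x => ⟨g • x.1, hU g x.1 x.2⟩
        one_smul := fun x => Subtype.ext (one_smul G x.1)
        mul_smul := fun g h x => Subtype.ext (mul_smul g h x.1)
        smul_zero := fun g => Subtype.ext (smul_zero g)
        smul_add := fun g x y => Subtype.ext (smul_add g x.1 y.1) }
    have hlt : Nat.card ↥U < Nat.card V := by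
      obtain ⟨x, hx, hx0⟩ := W.bot_or_exists_ne_zero.resolve_left hW0
      refine Finite.card_subtype_lt (x := x) fun h => hx0 ?_
      exact AddSubgroup.mem_bot.1 (hb.le ⟨h, hx⟩)
    have hcrU : IsCR G ↥U := by
      intro Y hY
      obtain ⟨Y', h1, h2, h3, h4⟩ := hcr.restrict U (Y.map U.subtype) hU (by
        rintro g _ ⟨y, hy, rfl⟩; exact ⟨g • y, hY g y hy, rfl⟩)
        (by rintro _ ⟨y, -, rfl⟩; exact y.2)
      refine ⟨Y'.comap U.subtype, fun g y hy => h1 g y.1 hy, ?_, ?_⟩
      · refine (AddSubgroup.eq_bot_iff_forall _).2 fun y hy => Subtype.ext ?_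
        exact AddSubgroup.mem_bot.1 (h3.le ⟨⟨y, hy.1, rfl⟩, hy.2⟩)
      · refine (AddSubgroup.eq_top_iff' _).2 fun y => ?_
        obtain ⟨_, ⟨a, ha, rfl⟩, b, hb, hab⟩ := AddSubgroup.mem_sup.1 (h4.symm.le y.2)
        exact AddSubgroup.mem_sup.2 ⟨a, ha, ⟨b, h2 hb⟩, hb, Subtype.ext hab⟩
    obtain ⟨v, w, h⟩ := hpair _ hlt G ↥U hodd hcrU le_rfl
    exact ⟨v.1, w.1, v.2, w.2, fun g h1 h2 x hx =>
      congrArg Subtype.val (h g (Subtype.ext h1) (Subtype.ext h2) ⟨x, hx⟩)⟩
  have hW0 : W ≠ ⊥ := fun h => hU1 (by rw [h, sup_bot_eq] at ht; exact ht)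
  obtain ⟨v1, w1, hv1, hw1, k1⟩ := key U W hU hW hb ht hW0
  obtain ⟨v2, w2, hv2, hw2, k2⟩ := key W U hW hU (inf_comm U W ▸ hb) (sup_comm U W ▸ ht) hU0
  have huniq : ∀ a a' b b' : V, a ∈ U → a' ∈ U → b ∈ W → b' ∈ W → a + b = a' + b' → a = a' ∧ b = b' := by
    intro a a' b b' ha ha' hb1 hb2 h
    have h1 : a - a' = b' - b := by rw [sub_eq_sub_iff_add_eq_add, h, add_comm]
    have h2 : a - a' = 0 := AddSubgroup.mem_bot.1 (hb.le ⟨U.sub_mem ha ha', h1 ▸ W.sub_mem hb2 hb1⟩)
    rw [h2] at h1
    exact ⟨sub_eq_zero.1 h2, (sub_eq_zero.1 h1.symm).symm⟩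
  refine ⟨v1 + v2, w1 + w2, fun g h1 h2 x => ?_⟩
  rw [smul_add] at h1 h2
  obtain ⟨e1, e2⟩ := huniq _ _ _ _ (hU g _ hv1) hv1 (hW g _ hv2) hv2 h1
  obtain ⟨e3, e4⟩ := huniq _ _ _ _ (hU g _ hw1) hw1 (hW g _ hw2) hw2 h2
  obtain ⟨a, ha, b, hb', rfl⟩ := AddSubgroup.mem_sup.1 (ht.symm.le (AddSubgroup.mem_top x))
  rw [smul_add, k1 g e1 e3 a ha, k2 g e2 e4 b hb']

/-- Both statements in all degrees. -/
theorem upTo (n : ℕ) : PairUpTo n ∧ SetUpTo n := by
  induction n using Nat.strong_induction_on with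
  | _ n ih =>
    have h := pairUpTo_step n (fun m hm => (ih m hm).1) fun m hm => (ih m hm).2
    exact ⟨h, setUpTo_step n h fun m hm => (ih m hm).2⟩

universe u v

/-- Bases of size two, in any universe. -/
theorem hasPair_of_odd {G : Type u} {V : Type v} [Group G] [Finite G] [AddCommGroup V] [Finite V]
    [DistribMulAction G V] (hodd : Odd (Nat.card G)) (hcr : IsCR G V) : HasPair G V := by
  obtain ⟨G', iG, fG, ⟨eG⟩⟩ := Finite.exists_type_univ_nonempty_mulEquiv.{u, 0} G
  haveI : Finite G' := Finite.of_fintype G'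
  haveI : Small.{0} V := inferInstance
  let e : Shrink.{0} V ≃+ V := Shrink.addEquiv
  haveI : Finite (Shrink.{0} V) := Finite.of_equiv V e.toEquiv.symm
  letI : DistribMulAction G' (Shrink.{0} V) :=
    { smul := fun g x => e.symm (eG.symm g • e x)
      one_smul := fun x => by show e.symm (eG.symm 1 • e x) = x; simp
      mul_smul := fun g h x => by
        show e.symm (eG.symm (g * h) • e x) = e.symm (eG.symm g • e (e.symm (eG.symm h • e x)))
        simp [mul_smul]
      smul_zero := fun g => by show e.symm (eG.symm g • e 0) = 0; simp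
      smul_add := fun g x y => by
        show e.symm (eG.symm g • e (x + y)) = e.symm (eG.symm g • e x) + e.symm (eG.symm g • e y)
        simp [smul_add] }
  have hodd' : Odd (Nat.card G') := by rwa [← Nat.card_congr eG.toEquiv]
  have hcr' : IsCR G' (Shrink.{0} V) := by
    intro U hU
    obtain ⟨W, hW, hb, ht⟩ := hcr (U.map e.toAddMonoidHom) (by
      rintro g _ ⟨x, hx, rfl⟩
      refine ⟨e.symm (g • e x), ?_, e.apply_symm_apply _⟩
      have h := hU (eG g) x hx
      change e.symm (eG.symm (eG g) • e x) ∈ U at h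
      rwa [eG.symm_apply_apply] at h)
    refine ⟨W.comap e.toAddMonoidHom, fun g x hx => ?_, ?_, ?_⟩
    · show e (e.symm (eG.symm g • e x)) ∈ W
      rw [e.apply_symm_apply]; exact hW _ _ hx
    · refine (AddSubgroup.eq_bot_iff_forall _).2 fun x hx => e.injective ?_
      rw [map_zero]
      exact AddSubgroup.mem_bot.1 (hb.le ⟨⟨x, hx.1, rfl⟩, hx.2⟩)
    · refine (AddSubgroup.eq_top_iff' _).2 fun x => ?_
      obtain ⟨_, ⟨a, ha, rfl⟩, b, hb', hab⟩ := AddSubgroup.mem_sup.1 (ht.symm.le (AddSubgroup.mem_top (e x)))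
      refine AddSubgroup.mem_sup.2 ⟨a, ha, e.symm b, ?_, e.injective ?_⟩
      · show e (e.symm b) ∈ W
        rwa [e.apply_symm_apply]
      · rw [map_add, e.apply_symm_apply]; exact hab
  obtain ⟨v, w, h⟩ := (upTo _).1 G' (Shrink.{0} V) hodd' hcr' le_rfl
  refine ⟨e v, e w, fun g h1 h2 x => ?_⟩
  have key : ∀ y, eG g • y = y ↔ g • e y = e y := fun y => by
    show e.symm (eG.symm (eG g) • e y) = y ↔ _
    rw [eG.symm_apply_apply, e.symm_apply_eq]
  have := (key (e.symm x)).1 (h (eG g) ((key v).2 h1) ((key w).2 h2) (e.symm x))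
  rwa [e.apply_symm_apply] at this

end H35.OddBase
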