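import Cfsg.Agent.H35.OddBase.Core

/-!
The primitive case: the symplectic section and the conclusion.
-/

set_option autoImplicit false
set_option linter.style.haveILetI false
set_option linter.unusedSectionVars false

namespace H35.OddBase

open Module
open scoped commutatorElement

theorem two_pow_card_range_le {G K : Type} [Group G] [Field K] [Finite K] (σ : G →* RingAut K) :
    2 ^ Nat.card σ.range ≤ Nat.card K := by
  haveI : Finite (RingAut K) := Finite.of_injective (fun e : RingAut K => (e : K → K)) DFunLike.coe_injective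
  haveI := Fintype.ofFinite ↥σ.range
  rw [Module.natCard_eq_pow_finrank (K := FixedPoints.subfield (↥σ.range) K) (V := K),
    FixedPoints.finrank_eq_card (↥σ.range) K, ← Nat.card_eq_fintype_card (α := ↥σ.range)]
  exact Nat.pow_le_pow_left Finite.one_lt_card _

/-- A group acting by automorphisms acts on the additive copy. -/
abbrev additiveAct (M N : Type) [Group M] [CommGroup N] [MulDistribMulAction M N] :
    DistribMulAction M (Additive N) where
  smul m a := Additive.ofMul (m • a.toMul)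
  one_smul a := congrArg Additive.ofMul (one_smul M a.toMul)
  mul_smul m n a := congrArg Additive.ofMul (mul_smul m n a.toMul)
  smul_zero m := congrArg Additive.ofMul (smul_one m : m • (1 : N) = 1)
  smul_add m a b := congrArg Additive.ofMul (smul_mul' m a.toMul b.toMul)

namespace Frame

variable {G V K : Type} [Group G] [Finite G] [AddCommGroup V] [Finite V] [DistribMulAction G V]
  [FaithfulSMul G V] [Field K] [Finite K] [Module K V] [Nontrivial V] (S : Frame G V K)

/-- A maximal normal subgroup of the kernel with abelian quotient modulo `A`. -/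
theorem exists_B : ∃ B : Subgroup G, B.Normal ∧ S.A ≤ B ∧ B ≤ S.σ.ker ∧
    (∀ x ∈ B, ∀ y ∈ B, ⁅x, y⁆ ∈ S.A) ∧
    ∀ B' : Subgroup G, B'.Normal → B ≤ B' → B' ≤ S.σ.ker → (∀ x ∈ B', ∀ y ∈ B', ⁅x, y⁆ ∈ S.A) → B' = B := by
  haveI : Finite (Subgroup G) := Finite.of_injective _ SetLike.coe_injective
  have hne : {B : Subgroup G | B.Normal ∧ S.A ≤ B ∧ B ≤ S.σ.ker ∧
      ∀ x ∈ B, ∀ y ∈ B, ⁅x, y⁆ ∈ S.A}.Nonempty := ⟨S.A, S.normal, le_rfl, S.A_le_ker, fun x hx y hy => by
    rw [commutatorElement_def]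
    exact S.A.mul_mem (S.A.mul_mem (S.A.mul_mem hx hy) (S.A.inv_mem hx)) (S.A.inv_mem hy)⟩
  obtain ⟨B, ⟨h1, h2, h3, h4⟩, hmax⟩ := WellFounded.has_min wellFounded_gt _ hne
  exact ⟨B, h1, h2, h3, h4, fun B' g1 g2 g3 g4 =>
    (g2.eq_or_lt.resolve_right (hmax B' ⟨g1, h2.trans g2, g3, g4⟩)).symm⟩

theorem center_le {B : Subgroup G} (hB : B.Normal) (hAB : S.A ≤ B) (hBC : B ≤ S.σ.ker) {x : G}
    (hx : x ∈ B) (hxB : ∀ y ∈ B, Commute x y) : x ∈ S.A := by
  haveI := hB
  let Z : Subgroup G := B ⊓ Subgroup.centralizer (B : Set G)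
  have hZ : Z = S.A := by
    refine S.maximal Z inferInstance (fun a ha => ⟨hAB ha, ?_⟩) ⟨⟨fun a b => Subtype.ext ?_⟩⟩
    · exact Subgroup.mem_centralizer_iff.2 fun y hy => S.commute_of_mem_ker (hBC hy) ha
    · exact Subgroup.mem_centralizer_iff.1 b.2.2 a a.2.1
  rw [← hZ]
  exact ⟨hx, Subgroup.mem_centralizer_iff.2 fun y hy => (hxB y hy).symm.eq⟩

theorem centralizer_le [hs : Group.IsSolvable G] {B : Subgroup G} (hB : B.Normal) (hAB : S.A ≤ B)
    (hBC : B ≤ S.σ.ker) (hcomm : ∀ x ∈ B, ∀ y ∈ B, ⁅x, y⁆ ∈ S.A)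
    (hmax : ∀ B' : Subgroup G, B'.Normal → B ≤ B' → B' ≤ S.σ.ker →
      (∀ x ∈ B', ∀ y ∈ B', ⁅x, y⁆ ∈ S.A) → B' = B)
    {x : G} (hx : x ∈ S.σ.ker) (hxB : ∀ y ∈ B, Commute x y) : x ∈ S.A := by
  haveI := hB
  haveI := S.normal
  let M : Subgroup G := S.σ.ker ⊓ Subgroup.centralizer (B : Set G)
  suffices hM : M ≤ S.A from hM ⟨hx, Subgroup.mem_centralizer_iff.2 fun y hy => (hxB y hy).symm.eq⟩
  by_contra hne
  obtain ⟨n, hn⟩ := (Group.isSolvable_def ↥M).1 inferInstance
  let D : ℕ → Subgroup G := fun j => (derivedSeries ↥M j).map M.subtype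
  have hD0 : D 0 = M := by
    simp only [D, derivedSeries_zero, ← MonoidHom.range_eq_map, Subgroup.range_subtype]
  have hDn : D n = ⊥ := by simp only [D, hn, Subgroup.map_bot]
  obtain ⟨j, hj, hj'⟩ : ∃ j, ¬ D j ≤ S.A ∧ D (j + 1) ≤ S.A := by
    by_contra h
    push Not at h
    have : ∀ j, ¬ D j ≤ S.A := fun j => by
      induction j with
      | zero => exact hD0 ▸ hne
      | succ j ih => exact h j ih
    exact this n (hDn ▸ bot_le)
  haveI : (D j).Normal := ConjAct.normal_of_characteristic_of_normal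
  have hDM : D j ≤ M := Subgroup.map_subtype_le _
  have hDcomm : ∀ a ∈ D j, ∀ b ∈ D j, ⁅a, b⁆ ∈ S.A := by
    rintro _ ⟨a, ha, rfl⟩ _ ⟨b, hb, rfl⟩
    exact hj' ⟨⁅a, b⁆, Subgroup.commutator_mem_commutator ha hb, map_commutatorElement _ _ _⟩
  have hgen : ∀ b ∈ B, ∀ a ∈ D j, ⁅b, a⁆ ∈ S.A := fun b hb a ha => by
    rw [commutatorElement_eq_one_iff_commute.2 (Subgroup.mem_centralizer_iff.1 (hDM ha).2 b hb)]
    exact S.A.one_mem
  have hsup : ∀ x ∈ B ⊔ D j, ∀ y ∈ B ⊔ D j, ⁅x, y⁆ ∈ S.A := by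
    let q := QuotientGroup.mk' S.A
    have key : ∀ x y, ⁅x, y⁆ ∈ S.A ↔ Commute (q x) (q y) := fun x y => by
      rw [← commutatorElement_eq_one_iff_commute, ← map_commutatorElement, QuotientGroup.mk'_apply,
        QuotientGroup.eq_one_iff]
    intro x hx y hy
    obtain ⟨b, hb, a, ha, rfl⟩ := Subgroup.mem_sup_of_normal_left.1 hx
    obtain ⟨b', hb', a', ha', rfl⟩ := Subgroup.mem_sup_of_normal_left.1 hy
    rw [key, map_mul, map_mul]
    refine Commute.mul_left (Commute.mul_right ?_ ?_) (Commute.mul_right ?_ ?_)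
    · exact (key _ _).1 (hcomm b hb b' hb')
    · exact (key _ _).1 (hgen b hb a' ha')
    · exact ((key _ _).1 (hgen b' hb' a ha)).symm
    · exact (key _ _).1 (hDcomm a ha a' ha')
  have heq := hmax (B ⊔ D j) inferInstance le_sup_left
    (sup_le hBC fun a ha => (hDM ha).1) hsup
  refine hj fun a ha => S.center_le hB hAB hBC (heq ▸ (le_sup_right : D j ≤ B ⊔ D j) ha) fun y hy => ?_
  exact (Subgroup.mem_centralizer_iff.1 (hDM ha).2 y hy).symm

include S in
/-- The conclusion in the primitive case. -/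
theorem hasPair (hodd : Odd (Nat.card G)) [Group.IsSolvable G]
    (hpair : ∀ m < Nat.card V, PairUpTo m) : HasPair G V := by
  classical
  haveI := S.normal
  haveI : Fintype ↥S.A := Fintype.ofFinite _
  obtain ⟨B, hBn, hAB, hBC, hcomm, hmax⟩ := S.exists_B
  haveI := hBn
  haveI : IsCyclic ↥S.A := isCyclic_of_subgroup_isDomain S.ι S.ι_injective
  letI : CommGroup ↥S.A := IsCyclic.commGroup
  set A' : Subgroup ↥B := S.A.subgroupOf B with hA'
  let N := ↥B ⧸ A'
  letI : CommGroup N :=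
    { (inferInstance : Group N) with
      mul_comm := fun a b => by
        obtain ⟨a, rfl⟩ := QuotientGroup.mk_surjective a
        obtain ⟨b, rfl⟩ := QuotientGroup.mk_surjective b
        refine QuotientGroup.eq.2 ?_
        show ((a * b)⁻¹ * (b * a) : G) ∈ S.A
        have : ((a * b)⁻¹ * (b * a) : G) = ⁅(b : G)⁻¹, (a : G)⁻¹⁆ := by
          simp only [commutatorElement_def, Subgroup.coe_mul, Subgroup.coe_inv]; group
        rw [this]
        exact hcomm _ (B.inv_mem b.2) _ (B.inv_mem a.2) }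
  haveI : Finite N := Quotient.finite _
  -- the commutator pairing
  have hcentral : ∀ (a : G), a ∈ S.A → ∀ g ∈ B, g * a = a * g := fun a ha g hg =>
    S.commute_of_mem_ker (hBC hg) ha
  let χ : ↥B → ↥B →* ↥S.A := fun b =>
    { toFun := fun c => ⟨⁅(b : G), (c : G)⁆, hcomm _ b.2 _ c.2⟩
      map_one' := Subtype.ext (commutatorElement_one_right _)
      map_mul' := fun c d => Subtype.ext (by
        show ⁅(b : G), (c : G) * d⁆ = ⁅(b : G), (c : G)⁆ * ⁅(b : G), (d : G)⁆
        have h1 : ⁅(b : G), (c : G) * d⁆ = ⁅(b : G), (c : G)⁆ * ((c : G) * ⁅(b : G), (d : G)⁆ * (c : G)⁻¹) := by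
          simp only [commutatorElement_def]; group
        rw [h1, hcentral _ (hcomm _ b.2 _ d.2) _ c.2, mul_assoc _ (c : G), mul_inv_cancel, mul_one]) }
  have hχmul : ∀ a b c : ↥B, χ (a * b) c = χ a c * χ b c := fun a b c => Subtype.ext (by
    show ⁅(a : G) * b, (c : G)⁆ = ⁅(a : G), (c : G)⁆ * ⁅(b : G), (c : G)⁆
    have h1 : ⁅(a : G) * b, (c : G)⁆ = (a : G) * ⁅(b : G), (c : G)⁆ * (a : G)⁻¹ * ⁅(a : G), (c : G)⁆ := by
      simp only [commutatorElement_def]; group
    rw [h1, hcentral _ (hcomm _ b.2 _ c.2) _ a.2, mul_assoc _ (a : G), mul_inv_cancel, mul_one]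
    exact hcentral _ (hcomm _ a.2 _ c.2) _ (hAB.trans le_rfl (hcomm _ b.2 _ c.2)))
  have hker : ∀ b : ↥B, A' ≤ (χ b).ker := fun b c hc => Subtype.ext (by
    show ⁅(b : G), (c : G)⁆ = 1
    exact commutatorElement_eq_one_iff_mul_comm.2 (hcentral _ hc _ b.2))
  let χ' : ↥B →* (N →* ↥S.A) :=
    { toFun := fun b => QuotientGroup.lift A' (χ b) (hker b)
      map_one' := MonoidHom.ext fun c => by
        obtain ⟨c, rfl⟩ := QuotientGroup.mk_surjective c
        exact Subtype.ext (commutatorElement_one_left _)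
      map_mul' := fun a b => MonoidHom.ext fun c => by
        obtain ⟨c, rfl⟩ := QuotientGroup.mk_surjective c
        exact hχmul a b c }
  have hker' : A' ≤ χ'.ker := fun b hb => MonoidHom.ext fun c => by
    obtain ⟨c, rfl⟩ := QuotientGroup.mk_surjective c
    exact Subtype.ext (commutatorElement_eq_one_iff_mul_comm.2 (hcentral _ hb _ c.2).symm)
  let P : AltPairing N ↥S.A :=
    { β := QuotientGroup.lift A' χ' hker'
      alt := fun x => by
        obtain ⟨b, rfl⟩ := QuotientGroup.mk_surjective x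
        exact Subtype.ext (commutatorElement_self _)
      nondeg := fun x hx => by
        obtain ⟨b, rfl⟩ := QuotientGroup.mk_surjective x
        refine (QuotientGroup.eq_one_iff b).2 (S.center_le hBn hAB hBC b.2 fun y hy => ?_)
        exact commutatorElement_eq_one_iff_commute.1
          (congrArg Subtype.val (hx (QuotientGroup.mk ⟨y, hy⟩))) }
  have hP : ∀ b c : ↥B, ((P.β (QuotientGroup.mk b) (QuotientGroup.mk c) : ↥S.A) : G) = ⁅(b : G), (c : G)⁆ :=
    fun b c => rfl
  -- elements of the kernel acting trivially on `B / A`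
  have hD : ∀ g ∈ S.σ.ker, (∀ b ∈ B, ⁅g, b⁆ ∈ S.A) → g ∈ B := by
    intro g hg hgb
    let ψ : ↥B →* ↥S.A :=
      { toFun := fun c => ⟨⁅g, (c : G)⁆, hgb _ c.2⟩
        map_one' := Subtype.ext (commutatorElement_one_right _)
        map_mul' := fun c d => Subtype.ext (by
          show ⁅g, (c : G) * d⁆ = ⁅g, (c : G)⁆ * ⁅g, (d : G)⁆
          have h1 : ⁅g, (c : G) * d⁆ = ⁅g, (c : G)⁆ * ((c : G) * ⁅g, (d : G)⁆ * (c : G)⁻¹) := by
            simp only [commutatorElement_def]; group
          rw [h1, hcentral _ (hgb _ d.2) _ c.2, mul_assoc _ (c : G), mul_inv_cancel, mul_one]) }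
    have hψ : A' ≤ ψ.ker := fun c hc => Subtype.ext
      (commutatorElement_eq_one_iff_mul_comm.2 (S.commute_of_mem_ker hg hc))
    obtain ⟨x, hx⟩ := P.surjective S.ι_injective (QuotientGroup.lift A' ψ hψ)
    obtain ⟨b, rfl⟩ := QuotientGroup.mk_surjective x
    have hbg : ∀ y ∈ B, Commute ((b : G)⁻¹ * g) y := fun y hy => by
      have h1 : ⁅(b : G), y⁆ = ⁅g, y⁆ := by
        have h0 := congrArg Subtype.val (DFunLike.congr_fun hx (QuotientGroup.mk (⟨y, hy⟩ : ↥B)))
        exact h0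
      rw [← commutatorElement_eq_one_iff_commute]
      have : ⁅(b : G)⁻¹ * g, y⁆ = (b : G)⁻¹ * ⁅g, y⁆ * ⁅(b : G), y⁆⁻¹ * (b : G) := by
        simp only [commutatorElement_def]; group
      rw [this, h1, mul_assoc _ ⁅g, y⁆, mul_inv_cancel, mul_one, inv_mul_cancel]
    have := hAB (S.centralizer_le hBn hAB hBC hcomm hmax
      (S.σ.ker.mul_mem (S.σ.ker.inv_mem (hBC b.2)) hg) hbg)
    simpa using B.mul_mem b.2 this
  -- fixed spaces
  have hfixB : ∀ x : ↥S.σ.ker, (x : G) ∈ B → (x : G) ∉ S.A →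
      3 * finrank K (S.fixSpace x) ≤ finrank K V := by
    intro x hxB hxA
    obtain ⟨y, hy, hne⟩ : ∃ y ∈ B, ⁅(x : G), y⁆ ≠ 1 := by
      by_contra h
      push Not at h
      exact hxA (S.center_le hBn hAB hBC hxB fun y hy => commutatorElement_eq_one_iff_commute.1 (h y hy))
    exact S.three_fix_le hodd (y := ⟨y, hBC hy⟩) (c := ⟨_, hcomm _ hxB _ hy⟩)
      (fun h => hne (congrArg Subtype.val h)) rfl
  have hfix : ∀ x : ↥S.σ.ker, (x : G) ∉ S.A → 3 * finrank K (S.fixSpace x) ≤ 2 * finrank K V := by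
    intro x hxA
    by_cases hxB : (x : G) ∈ B
    · have := hfixB x hxB hxA; omega
    obtain ⟨b, hb, hne⟩ : ∃ b ∈ B, ⁅(x : G), b⁆ ∉ S.A := by
      by_contra h
      push Not at h
      exact hxB (hD x x.2 h)
    have hh : ⁅(x : G), b⁆ ∈ B := by
      rw [commutatorElement_def]
      exact B.mul_mem (hBn.conj_mem b hb x) (B.inv_mem hb)
    exact S.three_fix_le_two_mul (b := ⟨b, hBC hb⟩) (h := ⟨_, hBC hh⟩) (hfixB ⟨_, hBC hh⟩ hh hne) rfl
  -- the trivial case
  by_cases hN1 : Subsingleton N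
  · have hBA : B ≤ S.A := fun b hb => by
      have := (QuotientGroup.eq_one_iff (⟨b, hb⟩ : ↥B)).1 (hN1.elim (QuotientGroup.mk _ : N) 1)
      exact this
    have hCA : ∀ g ∈ S.σ.ker, g ∈ S.A := fun g hg =>
      S.centralizer_le hBn hAB hBC hcomm hmax hg fun y hy => S.commute_of_mem_ker hg (hBA hy)
    obtain ⟨v, hv⟩ := exists_ne (0 : V)
    obtain ⟨ζ, hζ⟩ := IsCyclic.exists_generator (α := Kˣ)
    refine ⟨v, (ζ : K) • v, fun g h1 h2 x => ?_⟩
    rw [S.semi, h1] at h2
    have hσζ : S.σ g (ζ : K) = ζ := smul_left_injective K hv h2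
    have hσ : S.σ g = 1 := RingEquiv.ext fun c => by
      by_cases hc : c = 0
      · subst hc; simp
      · obtain ⟨i, hi⟩ := Subgroup.mem_zpowers_iff.1 (hζ (Units.mk0 c hc))
        have hc' : ((ζ : K) ^ i) = c := by rw [← Units.val_zpow_eq_zpow_val, hi, Units.val_mk0]
        rw [← hc', map_zpow₀, hσζ]; rfl
    have hgA := hCA g (MonoidHom.mem_ker.2 hσ)
    have hι : S.ι ⟨g, hgA⟩ = 1 := by
      rw [S.scal ⟨g, hgA⟩] at h1
      exact smul_left_injective K hv (h1.trans (one_smul K v).symm)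
    rw [S.scal ⟨g, hgA⟩, hι, one_smul]
  -- the dimension and the order of the section
  set d := finrank K V with hd
  set Q := Nat.card K with hQdef
  let T : N → Module.End K V := fun x => S.toEnd ⟨(x.out : ↥B), hBC x.out.2⟩
  have hsd : Nat.card N ≤ d * d := by
    refine P.card_le_finrank_sq S.ι_injective T (fun x y => LinearMap.ext fun v => ?_) fun x => ?_
    · show ((x.out : ↥B) : G) • ((y.out : ↥B) : G) • v =
        S.ι (P.β x y) • ((y.out : ↥B) : G) • ((x.out : ↥B) : G) • v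
      have hβ : ((P.β x y : ↥S.A) : G) = ⁅((x.out : ↥B) : G), ((y.out : ↥B) : G)⁆ := by
        conv_lhs => rw [← QuotientGroup.out_eq' x, ← QuotientGroup.out_eq' y]
        exact hP _ _
      rw [← S.scal, hβ, ← mul_smul, ← mul_smul, ← mul_smul]
      congr 1
      rw [commutatorElement_def]; group
    · exact IsUnit.map S.toEnd (Group.isUnit _)
  obtain ⟨e, he⟩ := AltPairing.exists_sq (A := ↥S.A) _ N rfl P
  haveI : Nontrivial N := not_subsingleton_iff_nontrivial.1 hN1
  have hNodd : Odd (Nat.card N) :=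
    (hodd.of_dvd_nat (Subgroup.card_subgroup_dvd_card B)).of_dvd_nat (Subgroup.card_quotient_dvd_card A')
  have heodd : Odd e := by rw [he, Nat.odd_pow_iff two_ne_zero] at hNodd; exact hNodd
  have he3 : 3 ≤ e := by
    have : 1 < e ^ 2 := he ▸ Finite.one_lt_card
    obtain ⟨j, rfl⟩ := heodd
    rcases j with _ | j
    · norm_num at this
    · omega
  have hed : e ≤ d := by
    rw [he, ← pow_two] at hsd
    exact (Nat.pow_le_pow_iff_left two_ne_zero).1 hsd
  have hbig : ∀ r : ℕ, r.Prime → r ∣ e → r + 1 ≤ Q := by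
    intro r hr hre
    haveI := Fact.mk hr
    obtain ⟨x, hx⟩ := exists_prime_orderOf_dvd_card' (G := N) r (he ▸ dvd_pow hre two_ne_zero)
    obtain ⟨y, hy⟩ : ∃ y, P.β x y ≠ 1 := by
      by_contra h
      push Not at h
      rw [P.nondeg x h, orderOf_one] at hx
      exact hr.one_lt.ne hx
    have ho : orderOf (P.β x y) = r := orderOf_eq_prime
      ((P.β_pow_eq_one_iff x r).2 (hx ▸ pow_orderOf_eq_one x) y) hy
    have := Nat.le_of_dvd Nat.card_pos (ho ▸ orderOf_dvd_natCard (P.β x y))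
    have := S.card_A_lt
    omega
  have hQ4 : 4 ≤ Q := by
    obtain ⟨r, hr, hre⟩ := Nat.exists_prime_and_dvd (n := e) (by omega)
    have := hbig r hr hre
    have h2 : r ≠ 2 := fun h => by
      subst h
      exact (Nat.not_even_iff_odd.2 heodd) (even_iff_two_dvd.2 hre)
    have := hr.two_le
    omega
  have hV : Nat.card V = Q ^ d := Module.natCard_eq_pow_finrank
  -- the action on the section
  let conjB : G →* MulAut ↥B := MulAut.conjNormal
  have hA'inv : ∀ g : G, A' ≤ A'.comap (conjB g).toMonoidHom := fun g c hc => by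
    show ((conjB g c : ↥B) : G) ∈ S.A
    rw [MulAut.conjNormal_apply]
    exact S.normal.conj_mem _ hc g
  let actN : G → (N →* N) := fun g => QuotientGroup.map A' A' (conjB g).toMonoidHom (hA'inv g)
  letI : MulDistribMulAction G N :=
    { smul := fun g x => actN g x
      one_smul := fun x => by
        obtain ⟨b, rfl⟩ := QuotientGroup.mk_surjective x
        show (QuotientGroup.mk (conjB 1 b) : N) = _
        rw [map_one]; rfl
      mul_smul := fun g h x => by
        obtain ⟨b, rfl⟩ := QuotientGroup.mk_surjective x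
        show (QuotientGroup.mk (conjB (g * h) b) : N) = _
        rw [map_mul]; rfl
      smul_mul := fun g x y => map_mul (actN g) x y
      smul_one := fun g => map_one (actN g) }
  have hsm : ∀ (g : G) (b : ↥B), g • (QuotientGroup.mk b : N) = QuotientGroup.mk (conjB g b) :=
    fun g b => rfl
  have hequiv : ∀ (g : G) (x y : N), ((P.β (g • x) (g • y) : ↥S.A) : G) = g * (P.β x y : G) * g⁻¹ := by
    intro g x y
    obtain ⟨b, rfl⟩ := QuotientGroup.mk_surjective x
    obtain ⟨c, rfl⟩ := QuotientGroup.mk_surjective y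
    rw [hsm, hsm, hP, hP, MulAut.conjNormal_apply, MulAut.conjNormal_apply]
    simp only [commutatorElement_def]; group
  let ψ : G →* MulAut N := MulDistribMulAction.toMulAut G N
  let X : Subgroup (MulAut N) := ψ.range
  letI := additiveAct ↥X N
  haveI : Finite ↥X := Finite.of_surjective _ ψ.rangeRestrict_surjective
  have hXodd : Odd (Nat.card ↥X) := hodd.of_dvd_nat (Subgroup.card_range_dvd _)
  haveI : FaithfulSMul ↥X (Additive N) := ⟨fun {a b} h => Subtype.ext (MulEquiv.ext fun x =>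
    congrArg Additive.toMul (h (Additive.ofMul x)))⟩
  have hcr : IsCR ↥X (Additive N) := by
    intro U hU
    let U' : Subgroup N := AddSubgroup.toSubgroup' U
    have hU' : ∀ (g : G), ∀ x ∈ U', g • x ∈ U' := fun g x hx =>
      hU ⟨ψ g, ⟨g, rfl⟩⟩ (Additive.ofMul x) hx
    have hperp : ∀ (g : G), ∀ x ∈ P.perp U', g • x ∈ P.perp U' := by
      intro g x hx w hw
      have h1 := hx (g⁻¹ • w) (hU' g⁻¹ w hw)
      apply Subtype.ext
      rw [← smul_inv_smul g w, hequiv, h1]
      simp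
    have hdisj : ∀ x ∈ U', x ∈ P.perp U' → x = 1 := by
      -- the preimage of the intersection is abelian and normal
      let Z : Subgroup G :=
        { carrier := {g | ∃ h : g ∈ B, (QuotientGroup.mk ⟨g, h⟩ : N) ∈ U' ⊓ P.perp U'}
          one_mem' := ⟨B.one_mem, (U' ⊓ P.perp U').one_mem⟩
          mul_mem' := fun ⟨ha, ha'⟩ ⟨hb, hb'⟩ => ⟨B.mul_mem ha hb, (U' ⊓ P.perp U').mul_mem ha' hb'⟩
          inv_mem' := fun ⟨ha, ha'⟩ => ⟨B.inv_mem ha, (U' ⊓ P.perp U').inv_mem ha'⟩ }
      have hZn : Z.Normal := by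
        refine ⟨fun a hamem g => ?_⟩
        obtain ⟨ha, ha'⟩ := hamem
        refine ⟨hBn.conj_mem a ha g, ?_⟩
        have heq : (QuotientGroup.mk ⟨g * a * g⁻¹, hBn.conj_mem a ha g⟩ : N) =
            g • (QuotientGroup.mk ⟨a, ha⟩ : N) := by
          rw [hsm]
          exact congrArg _ (Subtype.ext (MulAut.conjNormal_apply g (⟨a, ha⟩ : ↥B)).symm)
        rw [heq]; exact ⟨hU' g _ ha'.1, hperp g _ ha'.2⟩
      have hAZ : S.A ≤ Z := fun a ha => ⟨hAB ha, by
        rw [(QuotientGroup.eq_one_iff (⟨a, hAB ha⟩ : ↥B)).2 ha]; exact Subgroup.one_mem _⟩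
      have hZeq := S.maximal Z hZn hAZ ⟨⟨fun a b => Subtype.ext (commutatorElement_eq_one_iff_mul_comm.1 (by
        obtain ⟨ha, ha'⟩ := a.2
        obtain ⟨hb, hb'⟩ := b.2
        rw [← hP ⟨a, ha⟩ ⟨b, hb⟩]
        exact congrArg Subtype.val (ha'.2 _ hb'.1)))⟩⟩
      intro x hx hx'
      obtain ⟨b, rfl⟩ := QuotientGroup.mk_surjective x
      exact (QuotientGroup.eq_one_iff b).2 (hZeq.le (⟨b.2, hx, hx'⟩ : (b : G) ∈ Z))
    refine ⟨Subgroup.toAddSubgroup (P.perp U'), ?_, ?_, ?_⟩
    · rintro ⟨_, g, rfl⟩ v hv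
      exact hperp g v.toMul hv
    · exact (AddSubgroup.eq_bot_iff_forall _).2 fun x hx =>
        congrArg Additive.ofMul (hdisj x.toMul hx.1 hx.2)
    · have hinj : Function.Injective fun t : ↥U' × ↥(P.perp U') => (t.1 : N) * t.2 := by
        rintro ⟨a, b⟩ ⟨a', b'⟩ h
        simp only at h
        have h1 : (a'.1)⁻¹ * a.1 = b'.1 * b.1⁻¹ := by
          rw [inv_mul_eq_iff_eq_mul, ← mul_assoc, eq_mul_inv_iff_mul_eq]; exact h
        have h2 := hdisj _ (U'.mul_mem (U'.inv_mem a'.2) a.2)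
          (h1 ▸ (P.perp U').mul_mem b'.2 ((P.perp U').inv_mem b.2))
        have ha : a = a' := Subtype.ext (inv_mul_eq_one.1 h2).symm
        subst ha
        exact Prod.ext rfl (Subtype.ext (mul_left_cancel h))
      have hcard : Nat.card N ≤ Nat.card (↥U' × ↥(P.perp U')) := by
        rw [Nat.card_prod, ← Subgroup.index_mul_card (P.perp U')]
        exact Nat.mul_le_mul_right _ (P.index_perp_le S.ι_injective U')
      have hsurj := ((Nat.bijective_iff_injective_and_card _).2
        ⟨hinj, le_antisymm (Nat.card_le_card_of_injective _ hinj) hcard⟩).2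
      refine (AddSubgroup.eq_top_iff' _).2 fun x => ?_
      obtain ⟨⟨a, b⟩, hab⟩ := hsurj x.toMul
      rw [show x = Additive.ofMul (a : N) + Additive.ofMul (b : N) from congrArg Additive.ofMul hab.symm]
      exact AddSubgroup.add_mem_sup a.2 b.2
  have hNV : Nat.card (Additive N) < Nat.card V := by
    calc Nat.card (Additive N) = Nat.card N := Nat.card_congr Additive.toMul
      _ ≤ d * d := hsd
      _ < (2 ^ d) * (2 ^ d) := Nat.mul_self_lt_mul_self Nat.lt_two_pow_self
      _ = (2 * 2) ^ d := (mul_pow 2 2 d).symm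
      _ ≤ Q ^ d := Nat.pow_le_pow_left hQ4 d
      _ = _ := hV.symm
  have hAdd : Nat.card (Additive N) = e ^ 2 := (Nat.card_congr Additive.toMul).trans he
  have hx2 : 2 * Nat.card ↥X ≤ e ^ 2 * e ^ 2 := by
    have := two_mul_card_le hXodd (hpair _ hNV ↥X (Additive N) hXodd hcr le_rfl)
    rwa [hAdd] at this
  -- the index of `A`
  have hindex : S.A.index ≤ Nat.card S.σ.range * Nat.card ↥X * e ^ 2 := by
    have h1 : S.A.index = S.A.relIndex B * (B.relIndex S.σ.ker * S.σ.ker.index) := by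
      rw [Subgroup.relIndex_mul_index hBC, Subgroup.relIndex_mul_index hAB]
    have h2 : S.A.relIndex B = e ^ 2 := he
    have h3 : B.relIndex S.σ.ker ≤ Nat.card ↥X := by
      have hle : ψ.ker ⊓ S.σ.ker ≤ B := by
        rintro g ⟨hg, hgC⟩
        refine hD g hgC fun b hb => ?_
        have hgb : g • (QuotientGroup.mk ⟨b, hb⟩ : N) = QuotientGroup.mk ⟨b, hb⟩ := by
          exact DFunLike.congr_fun (MonoidHom.mem_ker.1 hg) (QuotientGroup.mk ⟨b, hb⟩ : N)
        rw [hsm, QuotientGroup.eq, Subgroup.mem_subgroupOf] at hgb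
        simp only [Subgroup.coe_mul, Subgroup.coe_inv, MulAut.conjNormal_apply, conjB] at hgb
        rw [show ⁅g, b⁆ = b * ((g * b * g⁻¹)⁻¹ * b)⁻¹ * b⁻¹ by rw [commutatorElement_def]; group]
        exact S.normal.conj_mem _ (S.A.inv_mem hgb) b
      calc B.relIndex S.σ.ker ≤ (ψ.ker ⊓ S.σ.ker).relIndex S.σ.ker :=
            Subgroup.relIndex_le_of_le_left hle Subgroup.index_ne_zero_of_finite
        _ = Nat.card (S.σ.ker.map ψ) := by rw [Subgroup.inf_relIndex_right, Subgroup.relIndex_ker]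
        _ ≤ Nat.card ↥X := Nat.card_le_card_of_injective (fun t => ⟨t.1, by
              obtain ⟨g, -, hg⟩ := t.2; exact ⟨g, hg⟩⟩) fun a b h => Subtype.ext (congrArg Subtype.val h :)
    rw [h1, h2, Subgroup.index_ker]
    calc e ^ 2 * (B.relIndex S.σ.ker * Nat.card S.σ.range) ≤ e ^ 2 * (Nat.card ↥X * Nat.card S.σ.range) :=
          Nat.mul_le_mul_left _ (Nat.mul_le_mul_right _ h3)
      _ = _ := by ring
  obtain ⟨L, hL, hL1, hL2, hL3⟩ : ∃ L, 2 * d / 3 ≤ L ∧ d + 1 ≤ 2 * L ∧ L ≤ d ∧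
      e - 2 * e / 3 ≤ d - L := by
    obtain ⟨je, hje⟩ := id heodd
    by_cases h4 : d = 4
    · exact ⟨3, by omega, by omega, by omega, by omega⟩
    · refine ⟨2 * d / 3, le_rfl, ?_, by omega, ?_⟩
      · clear * - hed he3 h4
        clear_value d
        omega
      · clear * - hed he3 h4
        clear_value d
        omega
  have hsX : Group.IsSolvable ↥X := Group.isSolvable_of_surjective ψ.rangeRestrict_surjective
  have hcount := linear_count (f := d - L) (m := Nat.card S.σ.range) (x := Nat.card ↥X) (by omega) he3 heodd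
    (hodd.of_dvd_nat (Subgroup.card_range_dvd _)) (two_pow_card_range_le S.σ) hQ4 hbig hx2
    (fun h => le_of_eq (bound_nine hXodd hcr (by rw [hAdd, h]; norm_num)))
    (fun h => bound_twentyFive hXodd hcr (by rw [hAdd, h]; norm_num))
    (fun h => bound_fortyNine hXodd hcr (by rw [hAdd, h]; norm_num))
    (fun h => bound_eightyOne hXodd hsX hcr (by rw [hAdd, h]; norm_num))
  refine S.hasPair_of_cosets hodd ((Q ^ 2) ^ L) (fun g hg => ?_) ?_ (Nat.one_le_pow _ _ (by positivity))
  · by_cases hgC : g ∈ S.σ.ker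
    · refine S.coset_sum_in ⟨g, hgC⟩ L (by omega) (fun z => ?_) hL
      have hmem : g * z ∈ S.σ.ker := S.σ.ker.mul_mem hgC (S.A_le_ker z.2)
      have h1 := hfix ⟨g * z, hmem⟩ fun h => hg (by simpa using S.A.mul_mem h (S.A.inv_mem z.2))
      have h2 : (S.toEnd ⟨g, hgC⟩).eigenspace (S.ι z)⁻¹ = S.fixSpace ⟨g * z, hmem⟩ := by
        ext v
        rw [S.mem_fixSpace, Module.End.mem_eigenspace_iff, S.toEnd_apply, mul_smul, S.scal, S.semi,
          MonoidHom.mem_ker.1 hgC, RingAut.one_apply]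
        have hz : S.ι z ≠ 0 := fun h0 => by
          obtain ⟨w, hw⟩ := exists_ne (0 : V)
          have := S.scal z w
          rw [h0, zero_smul, smul_eq_zero_iff_eq] at this
          exact hw this
        exact eq_inv_smul_iff₀ hz
      rwa [h2]
    · refine S.coset_sum_out hgC L ?_
      show d + 1 ≤ 2 * L
      omega
  · calc S.A.index * (Q ^ 2) ^ L ≤ (Q ^ 2) ^ (d - L) * (Q ^ 2) ^ L :=
          Nat.mul_le_mul_right _ (hindex.trans hcount)
      _ = (Q ^ 2) ^ d := by rw [← pow_add, Nat.sub_add_cancel (by omega)]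
      _ = _ := by rw [hV]; ring

end Frame

end H35.OddBase
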