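import Cfsg.Agent.H35.OddBase.Basic

/-!
Odd order completely reducible groups on small elementary abelian groups.
-/

set_option autoImplicit false
set_option linter.style.haveILetI false

namespace H35.OddBase

open MulAction
open scoped commutatorElement

theorem card_dvd_GL_aux {X N : Type*} [Group X] [Finite X] [AddCommGroup N] [Finite N]
    [DistribMulAction X N] [FaithfulSMul X N] {p : ℕ} [Fact p.Prime] [Module (ZMod p) N] {k : ℕ}
    (hk : Nat.card N = p ^ k) : Nat.card X ∣ ∏ i : Fin k, (p ^ k - p ^ (i : ℕ)) := by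
  classical
  haveI : SMulCommClass X (ZMod p) N :=
    ⟨fun g c x => ZMod.map_smul (DistribSMul.toAddMonoidHom N g) c x⟩
  haveI := Fintype.ofFinite N
  have hfr : Module.finrank (ZMod p) N = k := by
    have h := Module.card_eq_pow_finrank (K := ZMod p) (V := N)
    rw [← Nat.card_eq_fintype_card, hk, ZMod.card] at h
    exact (Nat.pow_right_injective (Fact.out (p := p.Prime)).two_le h).symm
  let b := Module.finBasisOfFinrankEq (ZMod p) N hfr
  let e : (Module.End (ZMod p) N) ≃* Matrix (Fin k) (Fin k) (ZMod p) :=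
    (LinearMap.toMatrixAlgEquiv b).toMulEquiv
  let f : X →* GL (Fin k) (ZMod p) :=
    ((e.toMonoidHom).comp (DistribMulAction.toModuleEnd (ZMod p) N)).toHomUnits
  have hf : Function.Injective f := by
    intro x y h
    have h1 := congrArg Units.val h
    have h2 : DistribMulAction.toModuleEnd (ZMod p) N x = DistribMulAction.toModuleEnd (ZMod p) N y :=
      e.injective h1
    exact eq_of_smul_eq_smul fun v => LinearMap.congr_fun h2 v
  have h := Subgroup.card_subgroup_dvd_card f.range
  rw [Matrix.card_GL_field, ZMod.card] at h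
  rwa [Nat.card_congr (MonoidHom.ofInjective hf).toEquiv]

/-- A group acting faithfully on an elementary abelian group has order dividing that of the
general linear group. -/
theorem card_dvd_GL {X N : Type*} [Group X] [Finite X] [AddCommGroup N] [Finite N]
    [DistribMulAction X N] [FaithfulSMul X N] {p : ℕ} [Fact p.Prime] {k : ℕ}
    (hexp : ∀ v : N, p • v = 0) (hk : Nat.card N = p ^ k) :
    Nat.card X ∣ ∏ i : Fin k, (p ^ k - p ^ (i : ℕ)) := by
  letI : Module (ZMod p) N := AddCommGroup.zmodModule hexp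
  exact card_dvd_GL_aux hk

variable {X N : Type*} [Group X] [AddCommGroup N] [DistribMulAction X N]

/-- A normal `p`-subgroup acts trivially on a completely reducible `p`-group. -/
theorem IsCR.pGroup_trivial [Finite N] (hcr : IsCR X N) {p : ℕ} [Fact p.Prime] {m : ℕ}
    (hN : Nat.card N = p ^ m) (P : Subgroup X) [P.Normal] (hP : IsPGroup p P) :
    ∀ g ∈ P, ∀ v : N, g • v = v := by
  classical
  set U : AddSubgroup N :=
    { carrier := {v | ∀ g ∈ P, g • v = v}
      add_mem' := fun ha hb g hg => by rw [smul_add, ha g hg, hb g hg]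
      zero_mem' := fun g _ => smul_zero g
      neg_mem' := fun ha g hg => by rw [smul_neg, ha g hg] }
  have hU : ∀ g : X, ∀ v ∈ U, g • v ∈ U := fun g v hv h hh => by
    have h1 := hv (g⁻¹ * h * g) (by
      simpa using (inferInstance : P.Normal).conj_mem h hh g⁻¹)
    rw [mul_smul, mul_smul, inv_smul_eq_iff] at h1
    exact h1
  obtain ⟨W, hW, hb, ht⟩ := hcr U hU
  suffices hW0 : W = ⊥ by
    rw [hW0, sup_bot_eq] at ht
    intro g hg v
    exact (show v ∈ U by rw [ht]; exact AddSubgroup.mem_top v) g hg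
  by_contra hWne
  let Ws : SubMulAction ↥P N := ⟨W, fun g v hv => hW g v hv⟩
  have hcard : p ∣ Nat.card ↥Ws := by
    have h1 : Nat.card ↥W ∣ p ^ m := hN ▸ AddSubgroup.card_addSubgroup_dvd_card W
    obtain ⟨i, -, hi⟩ := (Nat.dvd_prime_pow (Fact.out : p.Prime)).1 h1
    change p ∣ Nat.card ↥W
    rcases Nat.eq_zero_or_pos i with rfl | hi0
    · exact absurd (AddSubgroup.eq_bot_of_card_eq W (by rw [hi, pow_zero])) hWne
    · rw [hi]; exact dvd_pow_self p hi0.ne'
  have h0 : (⟨0, W.zero_mem⟩ : ↥Ws) ∈ fixedPoints ↥P ↥Ws := fun g => Subtype.ext (smul_zero g.1)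
  obtain ⟨⟨w, hw⟩, hwf, hne⟩ := hP.exists_fixed_point_of_prime_dvd_card_of_fixed_point ↥Ws hcard h0
  refine hne (Subtype.ext ?_)
  have : w ∈ U ⊓ W := ⟨fun g hg => congrArg Subtype.val (hwf ⟨g, hg⟩), hw⟩
  rw [hb] at this
  exact (AddSubgroup.mem_bot.1 this).symm

theorem IsCR.no_pGroup [Finite N] [FaithfulSMul X N] (hcr : IsCR X N) {p : ℕ} [Fact p.Prime] {m : ℕ}
    (hN : Nat.card N = p ^ m) (P : Subgroup X) [P.Normal] (hP : IsPGroup p P) : P = ⊥ :=
  P.eq_bot_iff_forall.2 fun g hg => eq_of_smul_eq_smul fun v =>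
    (hcr.pGroup_trivial hN P hP g hg v).trans (one_smul X v).symm

theorem pow_mul_card_fixed {y : X} {r : ℕ} [Fact r.Prime] (hy : y ^ r = 1) [Finite N] :
    Nat.card N ≡ Nat.card {v : N // y • v = v} [MOD r] := by
  have hP : IsPGroup r (Subgroup.zpowers y) := by
    rintro ⟨g, hg⟩
    obtain ⟨i, rfl⟩ := Subgroup.mem_zpowers_iff.1 hg
    refine ⟨1, Subtype.ext ?_⟩
    simp only [pow_one, SubmonoidClass.coe_pow, OneMemClass.coe_one]
    rw [← zpow_natCast, ← zpow_mul, mul_comm, zpow_mul, zpow_natCast, hy, one_zpow]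
  have hc : Nat.card (fixedPoints (Subgroup.zpowers y) N) = Nat.card {v : N // y • v = v} := by
    refine Nat.card_congr (Equiv.subtypeEquivRight fun v => ?_)
    rw [mem_fixedPoints]
    refine ⟨fun h => h ⟨y, Subgroup.mem_zpowers y⟩, fun h g => ?_⟩
    obtain ⟨g, hg⟩ := g
    exact mem_stabilizer_iff.1 ((Subgroup.zpowers_le.2 (show y ∈ stabilizer X v from h)) hg)
  rw [← hc]
  exact hP.card_modEq_card_fixedPoints N

/-- There are no commuting elements of orders `5` and `13` on a group of order `81`. -/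
theorem no_five_thirteen [Finite N] [FaithfulSMul X N] (hN : Nat.card N = 81) {x y : X}
    (hx : x ^ 5 = 1) (hx1 : x ≠ 1) (hy : y ^ 13 = 1) (hy1 : y ≠ 1) (hxy : Commute x y) : False := by
  haveI : Fact (Nat.Prime 13) := ⟨by norm_num⟩
  haveI : Fact (Nat.Prime 5) := ⟨by norm_num⟩
  haveI : Fact (Nat.Prime 3) := ⟨by norm_num⟩
  let F : X → AddSubgroup N := fun z => (DistribSMul.toAddMonoidHom N z).eqLocus (AddMonoidHom.id N)
  have hmem : ∀ z v, v ∈ F z ↔ z • v = v := fun _ _ => Iff.rfl
  have hdiv : ∀ z : X, z ≠ 1 → Nat.card (F z) ∣ 81 ∧ Nat.card (F z) ≠ 81 := fun z hz =>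
    ⟨hN ▸ AddSubgroup.card_addSubgroup_dvd_card _, fun h => hz (eq_of_smul_eq_smul fun v => by
      rw [one_smul]
      exact (hmem z v).1 ((AddSubgroup.eq_top_of_card_eq (F z) (h.trans hN.symm)).symm ▸
        AddSubgroup.mem_top v))⟩
  have hc : ∀ z : X, Nat.card (F z) = Nat.card {v : N // z • v = v} := fun z => rfl
  have hy3 : Nat.card (F y) = 3 := by
    obtain ⟨h1, h2⟩ := hdiv y hy1
    have h3 := pow_mul_card_fixed (N := N) hy
    rw [← hc, hN] at h3
    have h4 : Nat.card (F y) ≤ 81 := Nat.le_of_dvd (by norm_num) h1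
    obtain ⟨i, hi, hi'⟩ := (Nat.dvd_prime_pow (p := 3) (by norm_num) (m := 4)).1 h1
    rw [hi'] at h2 h3 ⊢
    interval_cases i <;> simp_all [Nat.ModEq]
  have hsub : ∀ v ∈ F y, x • v ∈ F y := fun v hv => by
    rw [hmem] at hv ⊢
    rw [← mul_smul, ← hxy.eq, mul_smul, hv]
  have hx81 := hdiv x hx1
  have h3 := pow_mul_card_fixed (N := N) hx
  rw [← hc, hN] at h3
  obtain ⟨i, hi, hi'⟩ := (Nat.dvd_prime_pow (p := 3) (by norm_num) (m := 4)).1 hx81.1
  have hx1' : Nat.card (F x) = 1 := by
    rw [hi'] at h3 ⊢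
    have h2 := hx81.2
    rw [hi'] at h2
    interval_cases i <;> simp_all [Nat.ModEq]
  -- `x` permutes the two non-zero elements of `F y`
  obtain ⟨v, hv, hv0⟩ : ∃ v ∈ F y, v ≠ (0 : N) := by
    by_contra h
    push Not at h
    have : F y = ⊥ := (AddSubgroup.eq_bot_iff_forall _).2 h
    rw [this, AddSubgroup.card_bot] at hy3
    norm_num at hy3
  let ψ : Fin 6 → ↥(F y) := fun j => ⟨x ^ (j : ℕ) • v, by
    induction (j : ℕ) with
    | zero => simpa using hv
    | succ n ih => rw [pow_succ', mul_smul]; exact hsub _ ih⟩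
  have hper : x • v = v := by
    obtain ⟨a, b, hab, heq⟩ : ∃ a b : ℕ, a < b ∧ b < 3 ∧ x ^ a • v = x ^ b • v := by
      let g : Fin 3 → {w : ↥(F y) // w.1 ≠ 0} := fun j => ⟨ψ ⟨j, by omega⟩, by
        show x ^ (j : ℕ) • v ≠ 0
        intro h; exact hv0 (by simpa using congrArg (fun u => (x ^ (j : ℕ))⁻¹ • u) h)⟩
      have hlt : Nat.card {w : ↥(F y) // w.1 ≠ 0} < Nat.card ↥(F y) :=
        Finite.card_subtype_lt (x := (⟨0, (F y).zero_mem⟩ : ↥(F y))) fun h => h rfl
      obtain ⟨a, b, hne, he⟩ : ∃ a b, a ≠ b ∧ g a = g b := by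
        by_contra h
        push Not at h
        have hinj : Function.Injective g := fun a b hab => by
          by_contra hne; exact h a b hne hab
        have := Nat.card_le_card_of_injective g hinj
        rw [Nat.card_fin] at this
        omega
      have he' : x ^ (a : ℕ) • v = x ^ (b : ℕ) • v := congrArg (fun w => (w.1 : N)) he
      rcases lt_or_gt_of_ne (fun h => hne (Fin.ext h)) with h | h
      · exact ⟨a, b, h, b.2, he'⟩
      · exact ⟨b, a, h, a.2, he'.symm⟩
    obtain ⟨hb, heq⟩ := heq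
    have hstab : x ^ (b - a) ∈ stabilizer X v := by
      rw [mem_stabilizer_iff]
      conv_rhs => rw [← inv_smul_smul (x ^ a) v]
      rw [heq, ← mul_smul]
      congr 1
      rw [eq_inv_mul_iff_mul_eq, ← pow_add]; congr 1; omega
    have h5 : x ^ 5 ∈ stabilizer X v := by rw [hx]; exact one_mem _
    have : x ∈ stabilizer X v := by
      have hd : b - a = 1 ∨ b - a = 2 := by omega
      rcases hd with h | h <;> rw [h] at hstab
      · simpa using hstab
      · have := mul_mem h5 (inv_mem (mul_mem hstab hstab))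
        rwa [← pow_add, show x ^ 5 = x ^ (2 + 2) * x by rw [← pow_succ], mul_assoc,
          (Commute.inv_right (Commute.pow_right (Commute.refl x) (2 + 2))).eq,
          mul_inv_cancel_left] at this
    exact this
  have : F x = ⊥ := AddSubgroup.eq_bot_of_card_eq _ hx1'
  exact hv0 (AddSubgroup.mem_bot.1 (this ▸ (hmem x v).2 hper))

/-- A completely reducible `p`-group is elementary abelian. -/
theorem IsCR.exponent [Finite N] (hcr : IsCR X N) {p : ℕ} [Fact p.Prime] {k : ℕ}
    (hk : Nat.card N = p ^ k) : ∀ v : N, p • v = 0 := by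
  set U : AddSubgroup N := (nsmulAddMonoidHom p : N →+ N).range with hUdef
  obtain ⟨W, hW, hb, ht⟩ := hcr U (by
    rintro g _ ⟨v, rfl⟩
    exact ⟨g • v, (smul_comm g p v).symm⟩)
  have hpW : ∀ w ∈ W, p • w = 0 := fun w hw => AddSubgroup.mem_bot.1 (hb.le
    ⟨⟨w, rfl⟩, W.nsmul_mem hw p⟩)
  have step : ∀ (j : ℕ) (v : N), ∃ v' : N, p • v = p ^ (j + 1) • v' := by
    intro j
    induction j with
    | zero => exact fun v => ⟨v, by rw [zero_add, pow_one]⟩
    | succ j ih =>
      intro v
      have hv : v ∈ U ⊔ W := ht ▸ AddSubgroup.mem_top v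
      obtain ⟨u, ⟨u', rfl⟩, w, hw, rfl⟩ := AddSubgroup.mem_sup.1 hv
      obtain ⟨v', hv'⟩ := ih u'
      refine ⟨v', ?_⟩
      rw [nsmul_add, hpW w hw, add_zero]
      show p • p • u' = _
      rw [hv', ← mul_nsmul', ← pow_succ']
  intro v
  obtain ⟨v', hv'⟩ := step k v
  rw [hv', pow_succ, mul_nsmul, ← hk]
  rw [card_nsmul_eq_zero', nsmul_zero]

/-- The groups that occur on `3 ^ k`, `k ≤ 4`. -/
theorem card_le_thirtyNine [Finite X] [Finite N] [FaithfulSMul X N] (hodd : Odd (Nat.card X))
    (hs : Group.IsSolvable X) (hcr : IsCR X N) {k : ℕ} (hk : k ≤ 4) (hN : Nat.card N = 3 ^ k)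
    (hd : Nat.card X ∣ 3 ^ 6 * 5 * 13) : Nat.card X ≤ 39 := by
  classical
  haveI : Fact (Nat.Prime 3) := ⟨Nat.prime_three⟩
  by_cases h1 : Nat.card X = 1
  · omega
  have h3 : ∀ P : Subgroup X, P.Normal → IsPGroup 3 P → P = ⊥ := fun P hP hp => by
    haveI := hP; exact hcr.no_pGroup hN P hp
  obtain ⟨M, hM, hMne, hMc⟩ : ∃ M : Subgroup X, M.Normal ∧ M ≠ ⊥ ∧ IsMulCommutative M := by
    haveI : Nontrivial X := Finite.one_lt_card_iff_nontrivial.1 (by have := Nat.card_pos (α := X); omega)
    obtain ⟨n, hn⟩ := (Group.isSolvable_def X).1 hs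
    obtain ⟨j, hj, hj'⟩ : ∃ j, derivedSeries X j ≠ ⊥ ∧ derivedSeries X (j + 1) = ⊥ := by
      by_contra h
      push Not at h
      have : ∀ j, derivedSeries X j ≠ ⊥ := fun j => by
        induction j with
        | zero => rw [derivedSeries_zero]; exact top_ne_bot
        | succ j ih => exact h j ih
      exact this n hn
    refine ⟨_, derivedSeries_normal X j, hj, ⟨⟨fun a b => ?_⟩⟩⟩
    have hab : ⁅(a : X), (b : X)⁆ ∈ derivedSeries X (j + 1) :=
      Subgroup.commutator_mem_commutator a.2 b.2
    rw [hj', Subgroup.mem_bot, commutatorElement_eq_one_iff_mul_comm] at hab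
    exact Subtype.ext hab
  haveI := hM
  have h3M : ¬ 3 ∣ Nat.card M := by
    intro h
    obtain ⟨z, hz⟩ := exists_prime_orderOf_dvd_card' 3 h
    let T : Subgroup X :=
      { carrier := {m | m ∈ M ∧ m ^ 3 = 1}
        one_mem' := ⟨M.one_mem, one_pow 3⟩
        mul_mem' := fun {a b} ha hb => ⟨M.mul_mem ha.1 hb.1, by
          rw [Commute.mul_pow (show Commute a b from
            congrArg Subtype.val (mul_comm' (⟨a, ha.1⟩ : M) ⟨b, hb.1⟩)), ha.2, hb.2, one_mul]⟩
        inv_mem' := fun {a} ha => ⟨M.inv_mem ha.1, by rw [inv_pow, ha.2, inv_one]⟩ }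
    have hT : T = ⊥ := h3 T ⟨fun a ha g => ⟨hM.conj_mem a ha.1 g, by
      rw [conj_pow, ha.2, mul_one, mul_inv_cancel]⟩⟩ (fun a => ⟨1, Subtype.ext (by simpa using a.2.2)⟩)
    have hzT : (z : X) ∈ T := ⟨z.2, by rw [← hz, ← SubgroupClass.coe_pow, pow_orderOf_eq_one]; rfl⟩
    rw [hT, Subgroup.mem_bot] at hzT
    have : z = 1 := Subtype.ext hzT
    rw [this, orderOf_one] at hz; norm_num at hz
  have hM65 : Nat.card M ∣ 5 * 13 := by
    have h := (Subgroup.card_subgroup_dvd_card M).trans hd
    rw [mul_assoc] at h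
    exact ((Nat.Coprime.pow_right 6 (((Nat.prime_three.coprime_iff_not_dvd).2 h3M).symm))).dvd_of_dvd_mul_left h
  obtain ⟨z, hz⟩ : ∃ z : M, z ≠ 1 := by
    by_contra h
    push Not at h
    exact hMne ((Subgroup.eq_bot_iff_forall _).2 fun x hx => congrArg Subtype.val (h ⟨x, hx⟩))
  -- the centraliser of `M` has no elements of order `3`, and no order `65` occurs
  set C := Subgroup.centralizer (M : Set X) with hC
  haveI hCn : C.Normal := Subgroup.normal_centralizer
  have key : ∀ x y : X, x ^ 5 = 1 → y ^ 13 = 1 → Commute x y → x = 1 ∨ y = 1 := by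
    intro x y hx hy hxy
    by_contra h
    push Not at h
    interval_cases k
    · haveI : Subsingleton N := (Nat.card_eq_one_iff_unique.1 hN).1
      exact h.1 (eq_of_smul_eq_smul fun v : N => Subsingleton.elim _ _)
    all_goals try
      (have hd' := card_dvd_GL (X := X) (p := 3) (hcr.exponent hN) hN
       have h5 : orderOf x = 5 := by
         haveI : Fact (Nat.Prime 5) := ⟨by norm_num⟩
         exact orderOf_eq_prime hx h.1
       have := (h5 ▸ orderOf_dvd_natCard x : 5 ∣ Nat.card X).trans hd'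
       simp [Fin.prod_univ_succ] at this
       done)
    exact no_five_thirteen hN hx h.1 hy h.2 hxy
  obtain ⟨r, hr, hrdvd⟩ : ∃ r : ℕ, (r = 5 ∨ r = 13) ∧ Nat.card M = r := by
    have hne : Nat.card M ≠ 1 := fun h => hMne (Subgroup.eq_bot_of_card_eq M h)
    have h65 : Nat.card M ∈ Nat.divisors 65 := Nat.mem_divisors.2 ⟨hM65, by norm_num⟩
    rw [show Nat.divisors 65 = {1, 5, 13, 65} by decide] at h65
    simp only [Finset.mem_insert, Finset.mem_singleton] at h65
    rcases h65 with h | h | h | h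
    · exact absurd h hne
    · exact ⟨5, Or.inl rfl, h⟩
    · exact ⟨13, Or.inr rfl, h⟩
    · exfalso
      haveI : Fact (Nat.Prime 13) := ⟨by norm_num⟩
      haveI : Fact (Nat.Prime 5) := ⟨by norm_num⟩
      obtain ⟨a, ha⟩ := exists_prime_orderOf_dvd_card' (G := M) 5 (h ▸ by norm_num)
      obtain ⟨b, hb⟩ := exists_prime_orderOf_dvd_card' (G := M) 13 (h ▸ by norm_num)
      rcases key a b (by rw [← SubgroupClass.coe_pow, ← ha, pow_orderOf_eq_one]; rfl)
        (by rw [← SubgroupClass.coe_pow, ← hb, pow_orderOf_eq_one]; rfl)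
        (congrArg Subtype.val (mul_comm' a b)) with h' | h'
      · rw [show a = 1 from Subtype.ext h', orderOf_one] at ha; norm_num at ha
      · rw [show b = 1 from Subtype.ext h', orderOf_one] at hb; norm_num at hb
  haveI hrp : Fact r.Prime := ⟨by rcases hr with rfl | rfl <;> norm_num⟩
  have hMC : M ≤ C := fun m hm => Subgroup.mem_centralizer_iff.2 fun m' hm' =>
    congrArg Subtype.val (mul_comm' (⟨m', hm'⟩ : M) ⟨m, hm⟩)
  have hCM : C = M := by
    -- a minimal normal subgroup of `X / M` inside `C / M` lifts to a normal subgroup `L`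
    by_contra hne
    obtain ⟨n, hn⟩ := (Group.isSolvable_def C).1 inferInstance
    let D : ℕ → Subgroup X := fun j => (derivedSeries C j).map C.subtype
    have hD0 : D 0 = C := by
      simp only [D, derivedSeries_zero, ← MonoidHom.range_eq_map, Subgroup.range_subtype]
    have hDn : D n = ⊥ := by simp only [D, hn, Subgroup.map_bot]
    obtain ⟨j, hj, hj'⟩ : ∃ j, ¬ D j ≤ M ∧ D (j + 1) ≤ M := by
      by_contra h
      push Not at h
      have : ∀ j, ¬ D j ≤ M := fun j => by
        induction j with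
        | zero => exact fun hh => hne (le_antisymm (hD0 ▸ hh) hMC)
        | succ j ih => exact h j ih
      exact this n (hDn ▸ bot_le)
    obtain ⟨x, hx, hxM⟩ := SetLike.not_le_iff_exists.1 hj
    have hDn' : ∀ j, (D j).Normal := fun j => ConjAct.normal_of_characteristic_of_normal
    haveI := hDn' j
    have hcomm : ∀ a ∈ D j, ∀ b ∈ D j, ⁅a, b⁆ ∈ M := by
      rintro _ ⟨a, ha, rfl⟩ _ ⟨b, hb, rfl⟩
      exact hj' ⟨⁅a, b⁆, Subgroup.commutator_mem_commutator ha hb, map_commutatorElement _ _ _⟩
    have hDC : D j ≤ C := Subgroup.map_subtype_le _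
    set q := if r = 5 then 13 else 5 with hq
    -- powers killing the other prime give a normal `3`-subgroup
    let T : Subgroup X :=
      { carrier := {a | a ∈ D j ∧ ∃ i, a ^ 3 ^ i = 1}
        one_mem' := ⟨one_mem _, 0, one_pow _⟩
        mul_mem' := ?_
        inv_mem' := fun {a} ha => ⟨inv_mem ha.1, ha.2.imp fun i hi => by rw [inv_pow, hi, inv_one]⟩ }
    swap
    · rintro a b ⟨ha, i, hi⟩ ⟨hb, i', hi'⟩
      refine ⟨mul_mem ha hb, ?_⟩
      -- the commutator is central of order prime to `3`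
      set c := ⁅a, b⁆ with hc
      have hcM : c ∈ M := hcomm a ha b hb
      have hca : Commute a c := (Subgroup.mem_centralizer_iff.1 (hDC ha) c hcM).symm
      have hcb : Commute b c := (Subgroup.mem_centralizer_iff.1 (hDC hb) c hcM).symm
      have hpow : ∀ n : ℕ, a ^ n * b = c ^ n * (b * a ^ n) := by
        intro n
        induction n with
        | zero => simp
        | succ n ih =>
          have e : a * b = c * (b * a) := by rw [hc, commutatorElement_def]; group
          calc a ^ (n + 1) * b = a * (a ^ n * b) := by rw [pow_succ', mul_assoc]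
            _ = a * c ^ n * b * a ^ n := by rw [ih]; group
            _ = c ^ n * (a * b) * a ^ n := by rw [(hca.pow_right n).eq]; group
            _ = c ^ (n + 1) * (b * a ^ (n + 1)) := by rw [e, pow_succ, pow_succ' a n]; group
      have hc1 : c = 1 := by
        have h := hpow (3 ^ i)
        rw [hi, one_mul, mul_one, eq_comm, mul_eq_right] at h
        have h' : c ^ r = 1 := by
          have h'' : (⟨c, hcM⟩ : M) ^ Nat.card M = 1 := pow_card_eq_one'
          rw [hrdvd] at h''
          exact congrArg Subtype.val h''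
        have hcop : Nat.Coprime (3 ^ i) r := by
          apply Nat.Coprime.pow_left
          rcases hr with rfl | rfl <;> norm_num
        have hg := pow_gcd_eq_one.2 ⟨h, h'⟩
        rwa [hcop, pow_one] at hg
      have hab : Commute a b := commutatorElement_eq_one_iff_commute.1 hc1
      exact ⟨i + i', by rw [hab.mul_pow, pow_add, pow_mul, hi, one_pow, mul_comm (3 ^ i), pow_mul,
        hi', one_pow, one_mul]⟩
    have hT : T = ⊥ := h3 T ⟨fun a ha g => ⟨(hDn' j).conj_mem a ha.1 g, ha.2.imp fun i hi => by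
      rw [conj_pow, hi, mul_one, mul_inv_cancel]⟩⟩ (fun a => by
        obtain ⟨i, hi⟩ := a.2.2
        exact ⟨i, Subtype.ext hi⟩)
    -- so every element of `D j` is killed by `65`
    have hord : ∀ a ∈ D j, a ^ (5 * 13) = 1 := by
      intro a ha
      have h1 : a ^ (3 ^ 6 * 5 * 13) = 1 :=
        orderOf_dvd_iff_pow_eq_one.1 ((orderOf_dvd_natCard a).trans hd)
      have h2 : a ^ (5 * 13) ∈ T := ⟨pow_mem ha _, 6, by rw [← pow_mul, ← h1]; congr 1⟩
      rw [hT] at h2
      exact Subgroup.mem_bot.1 h2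
    -- an element outside `M` gives commuting elements of orders `5` and `13`, or a second `r`
    obtain ⟨m, hm⟩ := z
    have hm1 : m ≠ 1 := fun h => hz (Subtype.ext h)
    have hmr : m ^ r = 1 := by
      have h'' : (⟨m, hm⟩ : M) ^ Nat.card M = 1 := pow_card_eq_one'
      rw [hrdvd] at h''
      exact congrArg Subtype.val h''
    have hcomm' : Commute x m := (Subgroup.mem_centralizer_iff.1 (hDC hx) m hm).symm
    have hx65 := hord x hx
    have hxr : x ^ r = 1 := by
      rcases hr with rfl | rfl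
      · rcases key m (x ^ 5) hmr (by rw [← pow_mul]; exact hx65)
          (hcomm'.symm.pow_right 5) with h | h
        · exact absurd h hm1
        · exact h
      · rcases key (x ^ 13) m (by rw [← pow_mul, mul_comm]; exact hx65) hmr
          (hcomm'.pow_left 13) with h | h
        · exact h
        · exact absurd h hm1
    -- two independent elements of order `r` would make `r ^ 2` divide the order
    have hZ : Nat.card (M ⊔ Subgroup.zpowers x : Subgroup X) = r * r := by
      have hx1 : x ≠ 1 := fun h => hxM (h ▸ M.one_mem)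
      have hox : orderOf x = r := orderOf_eq_prime hxr hx1
      have hdisj : M ⊓ Subgroup.zpowers x = ⊥ := by
        rw [Subgroup.eq_bot_iff_forall]
        rintro w ⟨hwM, hwx⟩
        by_contra hw1
        have hle : Subgroup.zpowers w ≤ Subgroup.zpowers x := Subgroup.zpowers_le.2 hwx
        have hwr : orderOf w = r := orderOf_eq_prime (by
          have h'' : (⟨w, hwM⟩ : M) ^ Nat.card M = 1 := pow_card_eq_one'
          rw [hrdvd] at h''
          exact congrArg Subtype.val h'') hw1
        have heq := Subgroup.eq_of_le_of_card_ge hle (by rw [Nat.card_zpowers, Nat.card_zpowers, hwr, hox])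
        exact hxM ((Subgroup.zpowers_le.2 hwM) (heq ▸ Subgroup.mem_zpowers x))
      have h := Subgroup.relIndex_mul_relIndex ⊥ M (M ⊔ Subgroup.zpowers x) bot_le le_sup_left
      rw [Subgroup.relIndex_bot_left, Subgroup.relIndex_bot_left, sup_comm, Subgroup.relIndex_sup_right,
        ← Subgroup.inf_relIndex_right, hdisj, Subgroup.relIndex_bot_left, hrdvd, Nat.card_zpowers,
        hox, sup_comm] at h
      exact h.symm
    have := (hZ ▸ Subgroup.card_subgroup_dvd_card _).trans hd
    rcases hr with rfl | rfl <;> norm_num at this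
  have hidx : Nat.card X = C.index * r := by rw [← Subgroup.index_mul_card C, hCM, hrdvd]
  let φ : X →* MulAut M := MulAut.conjNormal
  have hker : φ.ker = C := by
    ext g
    rw [MonoidHom.mem_ker, hC, Subgroup.mem_centralizer_iff]
    refine ⟨fun h m hm => ?_, fun h => MulEquiv.ext fun m => Subtype.ext ?_⟩
    · have := congrArg Subtype.val (DFunLike.congr_fun h ⟨m, hm⟩)
      simp only [φ, MulAut.conjNormal_apply, MulAut.one_apply] at this
      exact (mul_inv_eq_iff_eq_mul.1 this).symm
    · simp only [φ, MulAut.conjNormal_apply, MulAut.one_apply]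
      rw [mul_inv_eq_iff_eq_mul]; exact (h m m.2).symm
  have hle : C.index ∣ r - 1 := by
    rw [← hker, Subgroup.index_ker]
    haveI : IsCyclic M := isCyclic_of_prime_card hrdvd
    refine (Subgroup.card_subgroup_dvd_card φ.range).trans (dvd_of_eq ?_)
    rw [IsCyclic.card_mulAut, hrdvd, Nat.totient_prime hrp.1]
  have hio : Odd C.index := hodd.of_dvd_nat C.index_dvd_card
  rcases hr with rfl | rfl
  · have hmem : C.index ∈ Nat.divisors 4 := Nat.mem_divisors.2 ⟨hle, by norm_num⟩
    rw [show Nat.divisors 4 = {1, 2, 4} by decide] at hmem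
    simp only [Finset.mem_insert, Finset.mem_singleton] at hmem
    rcases hmem with h | h | h <;> rw [h] at hio hidx <;> first | omega | simp_all (config := { decide := true })
  · have hmem : C.index ∈ Nat.divisors 12 := Nat.mem_divisors.2 ⟨hle, by norm_num⟩
    rw [show Nat.divisors 12 = {1, 2, 3, 4, 6, 12} by decide] at hmem
    simp only [Finset.mem_insert, Finset.mem_singleton] at hmem
    rcases hmem with h | h | h | h | h | h <;> rw [h] at hio hidx <;> first | omega | simp_all (config := { decide := true })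

theorem odd_dvd_of_dvd {n m a : ℕ} (hodd : Odd n) (h : n ∣ 2 ^ a * m) : n ∣ m :=
  ((Nat.coprime_two_right.2 hodd).pow_right a).dvd_of_dvd_mul_left h

variable [Finite X] [Finite N] [FaithfulSMul X N]

theorem bound_nine (hodd : Odd (Nat.card X)) (hcr : IsCR X N) (hN : Nat.card N = 9) :
    Nat.card X = 1 := by
  haveI : Fact (Nat.Prime 3) := ⟨Nat.prime_three⟩
  have h := card_dvd_GL (X := X) (p := 3) (k := 2) (hcr.exponent (k := 2) hN) hN
  simp [Fin.prod_univ_succ] at h
  have h3 : Nat.card X ∣ 3 ^ 1 := odd_dvd_of_dvd (a := 4) hodd (h.trans (by norm_num))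
  obtain ⟨i, -, hi⟩ := (Nat.dvd_prime_pow Nat.prime_three).1 h3
  have htop : (⊤ : Subgroup X) = ⊥ := hcr.no_pGroup (p := 3) (m := 2) hN ⊤
    (IsPGroup.of_card (n := i) (by rw [Subgroup.card_top, hi]))
  rw [← Subgroup.card_top (G := X), htop, Subgroup.card_bot]

theorem bound_twentyFive (hodd : Odd (Nat.card X)) (hcr : IsCR X N) (hN : Nat.card N = 25) :
    Nat.card X ≤ 15 := by
  haveI : Fact (Nat.Prime 5) := ⟨by norm_num⟩
  have h := card_dvd_GL (X := X) (p := 5) (k := 2) (hcr.exponent (k := 2) hN) hN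
  simp [Fin.prod_univ_succ] at h
  exact Nat.le_of_dvd (by norm_num) (odd_dvd_of_dvd (a := 5) hodd (h.trans (by norm_num)))

theorem bound_fortyNine (hodd : Odd (Nat.card X)) (hcr : IsCR X N) (hN : Nat.card N = 49) :
    Nat.card X ≤ 63 := by
  haveI : Fact (Nat.Prime 7) := ⟨by norm_num⟩
  have h := card_dvd_GL (X := X) (p := 7) (k := 2) (hcr.exponent (k := 2) hN) hN
  simp [Fin.prod_univ_succ] at h
  exact Nat.le_of_dvd (by norm_num) (odd_dvd_of_dvd (a := 5) hodd (h.trans (by norm_num)))

theorem bound_eightyOne (hodd : Odd (Nat.card X)) (hs : Group.IsSolvable X) (hcr : IsCR X N)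
    (hN : Nat.card N = 81) : Nat.card X ≤ 39 := by
  haveI : Fact (Nat.Prime 3) := ⟨Nat.prime_three⟩
  have h := card_dvd_GL (X := X) (p := 3) (k := 4) (hcr.exponent (k := 4) hN) hN
  simp [Fin.prod_univ_succ] at h
  exact card_le_thirtyNine hodd hs hcr (k := 4) le_rfl hN
    (odd_dvd_of_dvd (a := 9) hodd (h.trans (by norm_num)))

theorem bound_twentySeven (hodd : Odd (Nat.card X)) (hs : Group.IsSolvable X) (hcr : IsCR X N)
    (hN : Nat.card N = 27) : Nat.card X ≤ 39 := by
  haveI : Fact (Nat.Prime 3) := ⟨Nat.prime_three⟩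
  have h := card_dvd_GL (X := X) (p := 3) (k := 3) (hcr.exponent (k := 3) hN) hN
  simp [Fin.prod_univ_succ] at h
  exact card_le_thirtyNine hodd hs hcr (k := 3) (by norm_num) hN
    ((odd_dvd_of_dvd (a := 5) (m := 3 ^ 3 * 13) hodd (h.trans (by norm_num))).trans (by norm_num))

end H35.OddBase
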