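import Cfsg.Agent.H35.OddBase.Gluck
import Cfsg.Agent.H35.OddBase.Pairing

/-!
Bases of size two for a primitive odd order semilinear group.
-/

set_option autoImplicit false
set_option linter.style.haveILetI false
set_option linter.unusedSectionVars false

namespace H35.OddBase

open Module
open scoped commutatorElement

theorem mul_sub_one_le {x k L : ℕ} (hx : 1 ≤ x) (hkL : k ≤ L) :
    L * (x ^ k - 1) ≤ k * (x ^ L - 1) := by
  obtain ⟨y, rfl⟩ : ∃ y, x = y + 1 := ⟨x - 1, by omega⟩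
  have hgeom : ∀ j, (y + 1) ^ j - 1 = y * ∑ i ∈ Finset.range j, (y + 1) ^ i := by
    intro j
    induction j with
    | zero => simp
    | succ j ih =>
      rw [Finset.sum_range_succ, mul_add, ← ih, pow_succ]
      have : 1 ≤ (y + 1) ^ j := Nat.one_le_pow _ _ (by omega)
      rw [mul_add, mul_one, mul_comm ((y + 1) ^ j) y]
      omega
  have hsum : L * ∑ i ∈ Finset.range k, (y + 1) ^ i ≤ k * ∑ i ∈ Finset.range L, (y + 1) ^ i := by
    induction L, hkL using Nat.le_induction with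
    | base => rfl
    | succ L hL ih =>
      have hle : ∑ i ∈ Finset.range k, (y + 1) ^ i ≤ k * (y + 1) ^ L := by
        calc ∑ i ∈ Finset.range k, (y + 1) ^ i ≤ ∑ _i ∈ Finset.range k, (y + 1) ^ L :=
              Finset.sum_le_sum fun i hi => Nat.pow_le_pow_right (by omega) (by
                have := Finset.mem_range.1 hi; omega)
          _ = _ := by simp
      rw [Finset.sum_range_succ _ L, add_mul, one_mul, mul_add]
      exact Nat.add_le_add ih hle
  rw [hgeom, hgeom]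
  calc L * (y * ∑ i ∈ Finset.range k, (y + 1) ^ i) = y * (L * ∑ i ∈ Finset.range k, (y + 1) ^ i) := by ring
    _ ≤ y * (k * ∑ i ∈ Finset.range L, (y + 1) ^ i) := Nat.mul_le_mul_left _ hsum
    _ = _ := by ring

theorem sum_finrank_le_of_iSupIndep {K V ι : Type*} [Field K] [AddCommGroup V] [Module K V]
    [FiniteDimensional K V] [Fintype ι] [DecidableEq ι] {p : ι → Submodule K V} (h : iSupIndep p) :
    ∑ i, finrank K (p i) ≤ finrank K V := by
  have := LinearMap.finrank_le_finrank_of_injective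
    (f := DFinsupp.lsum ℕ fun i => (p i).subtype) h.dfinsupp_lsum_injective
  exact le_trans (le_of_eq (Module.finrank_directSum K fun i => ↥(p i)).symm) this

theorem sum_finrank_eigenspace_le {K V ι : Type*} [Field K] [AddCommGroup V] [Module K V]
    [FiniteDimensional K V] [Fintype ι] (T : Module.End K V) (μ : ι → K)
    (hμ : Function.Injective μ) : ∑ i, finrank K (T.eigenspace (μ i)) ≤ finrank K V := by
  classical
  exact sum_finrank_le_of_iSupIndep (T.eigenspaces_iSupIndep.comp hμ)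

/-- The numerical content of the primitive linear case. -/
theorem linear_count {Q f e m x : ℕ} (hkd : e - 2 * e / 3 ≤ f) (he : 3 ≤ e) (heodd : Odd e) (hm : Odd m)
    (hQm : 2 ^ m ≤ Q) (hQ : 4 ≤ Q) (hbig : ∀ r : ℕ, r.Prime → r ∣ e → r + 1 ≤ Q)
    (hx : 2 * x ≤ e ^ 2 * e ^ 2) (h3 : e = 3 → x ≤ 1) (h5 : e = 5 → x ≤ 15) (h7 : e = 7 → x ≤ 63)
    (h9 : e = 9 → x ≤ 39) : m * x * e ^ 2 ≤ (Q ^ 2) ^ f := by
  have hm' : m = 1 ∨ (8 ≤ Q ∧ 2 * m ≤ Q) := by
    obtain ⟨j, rfl⟩ := hm
    rcases Nat.eq_zero_or_pos j with rfl | hj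
    · exact Or.inl rfl
    right
    refine ⟨le_trans ?_ hQm, le_trans ?_ hQm⟩
    · exact le_trans (by norm_num : (8 : ℕ) ≤ 2 ^ 3) (Nat.pow_le_pow_right two_pos (by omega))
    · rw [pow_succ]
      have := Nat.lt_two_pow_self (n := 2 * j)
      omega
  set k := e - 2 * e / 3 with hk
  refine le_trans ?_ (Nat.pow_le_pow_right (by positivity) hkd)
  have small : ∀ a, x ≤ a → a * e ^ 2 ≤ (Q ^ 2) ^ k → a * e ^ 2 ≤ 2 * (8 ^ 2) ^ k / 8 →
      1 ≤ k → m * x * e ^ 2 ≤ (Q ^ 2) ^ k := by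
    intro a hxa h1 h8 hk1
    rcases hm' with rfl | ⟨hQ8, h2m⟩
    · rw [one_mul]; exact (Nat.mul_le_mul_right _ hxa).trans h1
    obtain ⟨i, hi⟩ : ∃ i, k = i + 1 := ⟨k - 1, by omega⟩
    have h8' : a * e ^ 2 ≤ 2 * (8 * (8 ^ 2) ^ i) := by
      refine h8.trans (le_of_eq ?_)
      rw [hi, pow_succ, show 2 * ((8 ^ 2) ^ i * 8 ^ 2) = 2 * (8 * (8 ^ 2) ^ i) * 8 by ring,
        Nat.mul_div_cancel _ (by norm_num)]
    calc m * x * e ^ 2 ≤ m * (a * e ^ 2) := by
          rw [mul_assoc]; exact Nat.mul_le_mul_left _ (Nat.mul_le_mul_right _ hxa)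
      _ ≤ m * (2 * (8 * (8 ^ 2) ^ i)) := Nat.mul_le_mul_left _ h8'
      _ = (2 * m) * (8 * (8 ^ 2) ^ i) := by ring
      _ ≤ Q * (Q * (Q ^ 2) ^ i) := Nat.mul_le_mul h2m (Nat.mul_le_mul hQ8
            (Nat.pow_le_pow_left (Nat.pow_le_pow_left hQ8 2) _))
      _ = (Q ^ 2) ^ k := by rw [hi]; ring
  have hpowQ : ∀ a, a ≤ Q → (a ^ 2) ^ k ≤ (Q ^ 2) ^ k := fun a ha =>
    Nat.pow_le_pow_left (Nat.pow_le_pow_left ha 2) _
  obtain ⟨j, rfl⟩ := heodd
  by_cases h11 : 2 * j + 1 < 11
  · obtain rfl | rfl | rfl | rfl : j = 1 ∨ j = 2 ∨ j = 3 ∨ j = 4 := by omega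
    · have hk1 : k = 1 := by omega
      exact small 1 (h3 rfl) (le_trans (by rw [hk1]; norm_num) (hpowQ 4 hQ)) (by rw [hk1]; norm_num) (by omega)
    · have hk1 : k = 2 := by omega
      exact small 15 (h5 rfl) (le_trans (by rw [hk1]; norm_num) (hpowQ 6 (hbig 5 (by norm_num) (by norm_num))))
        (by rw [hk1]; norm_num) (by omega)
    · have hk1 : k = 3 := by omega
      exact small 63 (h7 rfl) (le_trans (by rw [hk1]; norm_num) (hpowQ 8 (hbig 7 (by norm_num) (by norm_num))))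
        (by rw [hk1]; norm_num) (by omega)
    · have hk1 : k = 3 := by omega
      exact small 39 (h9 rfl) (le_trans (by rw [hk1]; norm_num) (hpowQ 4 hQ)) (by rw [hk1]; norm_num) (by omega)
  -- the large cases
  set e := 2 * j + 1 with he_def
  have hk4 : 4 ≤ k := by omega
  have he3k : e ≤ 3 * k := by omega
  have hx6 : 2 * (x * e ^ 2) ≤ (3 * k) ^ 6 := by
    calc 2 * (x * e ^ 2) = (2 * x) * e ^ 2 := by ring
      _ ≤ e ^ 2 * e ^ 2 * e ^ 2 := Nat.mul_le_mul_right _ hx
      _ = e ^ 6 := by ring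
      _ ≤ _ := Nat.pow_le_pow_left he3k _
  have grow : ∀ t s c b : ℕ, ∀ i, 4 ≤ c → 4 ≤ b → (3 * c) ^ 6 * t ≤ s * b ^ c →
      (3 * (c + i)) ^ 6 * t ≤ s * b ^ (c + i) := by
    intro t s c b i hc hb hbase
    induction i with
    | zero => simpa using hbase
    | succ i ih =>
      have h1 : (4 * (3 * (c + (i + 1)))) ^ 6 ≤ (5 * (3 * (c + i))) ^ 6 := Nat.pow_le_pow_left (by omega) _
      rw [mul_pow 4, mul_pow 5] at h1
      have h2 : (3 * (c + (i + 1))) ^ 6 ≤ 4 * (3 * (c + i)) ^ 6 := by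
        have : (5 : ℕ) ^ 6 ≤ 4 * 4 ^ 6 := by norm_num
        have := h1.trans (Nat.mul_le_mul_right _ this)
        refine Nat.le_of_mul_le_mul_left ?_ (by norm_num : 0 < 4 ^ 6)
        calc 4 ^ 6 * (3 * (c + (i + 1))) ^ 6 ≤ 4 * 4 ^ 6 * (3 * (c + i)) ^ 6 := this
          _ = _ := by ring
      calc (3 * (c + (i + 1))) ^ 6 * t ≤ 4 * (3 * (c + i)) ^ 6 * t := Nat.mul_le_mul_right _ h2
        _ = 4 * ((3 * (c + i)) ^ 6 * t) := mul_assoc _ _ _
        _ ≤ b * (s * b ^ (c + i)) := Nat.mul_le_mul hb ih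
        _ = _ := by ring
  rcases hm' with rfl | ⟨hQ8, h2m⟩
  · rw [one_mul]
    suffices h : (3 * k) ^ 6 ≤ 2 * (Q ^ 2) ^ k by omega
    by_cases h27 : 27 ≤ e
    · obtain ⟨i, hi⟩ : ∃ i, k = 9 + i := ⟨k - 9, by omega⟩
      have := grow 1 2 9 16 i (by norm_num) (by norm_num) (by norm_num)
      rw [← hi, mul_one] at this
      exact this.trans (Nat.mul_le_mul_left _ (hpowQ 4 hQ))
    · have hQ6 : 6 ≤ Q := by
        obtain ⟨r, hr, hre⟩ := Nat.exists_prime_and_dvd (n := e) (by omega)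
        by_cases hr5 : 5 ≤ r
        · exact le_trans (by omega) (hbig r hr hre)
        · -- `e` has a prime factor at least `5`
          have : ∃ r, r.Prime ∧ r ∣ e ∧ 5 ≤ r := by
            have : e = 11 ∨ e = 13 ∨ e = 15 ∨ e = 17 ∨ e = 19 ∨ e = 21 ∨ e = 23 ∨ e = 25 := by omega
            rcases this with h | h | h | h | h | h | h | h <;> rw [h]
            · exact ⟨11, by norm_num, by norm_num, by norm_num⟩
            · exact ⟨13, by norm_num, by norm_num, by norm_num⟩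
            · exact ⟨5, by norm_num, by norm_num, by norm_num⟩
            · exact ⟨17, by norm_num, by norm_num, by norm_num⟩
            · exact ⟨19, by norm_num, by norm_num, by norm_num⟩
            · exact ⟨7, by norm_num, by norm_num, by norm_num⟩
            · exact ⟨23, by norm_num, by norm_num, by norm_num⟩
            · exact ⟨5, by norm_num, by norm_num, by norm_num⟩
          obtain ⟨s, hs, hse, hs5⟩ := this
          exact le_trans (by omega) (hbig s hs hse)
      obtain ⟨i, hi⟩ : ∃ i, k = 4 + i := ⟨k - 4, by omega⟩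
      have := grow 1 2 4 36 i le_rfl (by norm_num) (by norm_num)
      rw [← hi, mul_one] at this
      exact this.trans (Nat.mul_le_mul_left _ (hpowQ 6 hQ6))
  · obtain ⟨i, hi⟩ : ∃ i, k = 4 + i := ⟨k - 4, by omega⟩
    have hb : (3 * k) ^ 6 ≤ 4 * (8 * (8 ^ 2) ^ (k - 1)) := by
      have h := grow 2 1 4 64 i le_rfl (by norm_num) (by norm_num)
      rw [← hi, one_mul] at h
      rw [show (8 ^ 2 : ℕ) = 64 by norm_num]
      rw [show 64 ^ k = 64 * 64 ^ (k - 1) by rw [← pow_succ']; congr 1; omega] at h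
      omega
    calc m * x * e ^ 2 = m * (x * e ^ 2) := mul_assoc _ _ _
      _ ≤ m * (2 * (8 * (8 ^ 2) ^ (k - 1))) := Nat.mul_le_mul_left _ (by omega)
      _ = (2 * m) * (8 * (8 ^ 2) ^ (k - 1)) := by ring
      _ ≤ Q * (Q * (Q ^ 2) ^ (k - 1)) := Nat.mul_le_mul h2m (Nat.mul_le_mul hQ8
            (Nat.pow_le_pow_left (Nat.pow_le_pow_left hQ8 2) _))
      _ = (Q ^ 2) ^ k := by
          conv_rhs => rw [show k = (k - 1) + 1 by omega]
          ring

/-- A faithful semilinear group with an abelian normal subgroup of scalars, maximal among abelian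
normal subgroups. -/
structure Frame (G V K : Type) [Group G] [AddCommGroup V] [DistribMulAction G V] [Field K]
    [Module K V] where
  A : Subgroup G
  normal : A.Normal
  σ : G →* RingAut K
  semi : ∀ (g : G) (c : K) (v : V), g • c • v = σ g c • g • v
  ι : ↥A →* K
  scal : ∀ (a : ↥A) (v : V), (a : G) • v = ι a • v
  maximal : ∀ M : Subgroup G, M.Normal → A ≤ M → IsMulCommutative ↥M → M = A

namespace Frame

variable {G V K : Type} [Group G] [Finite G] [AddCommGroup V] [Finite V] [DistribMulAction G V]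
  [FaithfulSMul G V] [Field K] [Finite K] [Module K V] [Nontrivial V] (S : Frame G V K)

theorem ι_injective : Function.Injective S.ι := fun a b h =>
  Subtype.ext (eq_of_smul_eq_smul fun v : V => by rw [S.scal, S.scal, h])

theorem scalar_inj {c c' : K} (h : ∀ v : V, c • v = c' • v) : c = c' := by
  obtain ⟨v, hv⟩ := exists_ne (0 : V)
  exact smul_left_injective K hv (h v)

theorem A_le_ker : S.A ≤ S.σ.ker := fun a ha => by
  rw [MonoidHom.mem_ker]
  refine RingEquiv.ext fun c => scalar_inj (V := V) fun v => ?_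
  show S.σ a c • v = c • v
  have h := S.semi a c (a⁻¹ • v)
  rw [smul_inv_smul, S.scal ⟨a, ha⟩, smul_comm, ← S.scal ⟨a, ha⟩ (a⁻¹ • v)] at h
  rw [smul_inv_smul] at h
  exact h.symm

theorem commute_of_mem_ker {g : G} (hg : g ∈ S.σ.ker) {a : G} (ha : a ∈ S.A) : g * a = a * g :=
  eq_of_smul_eq_smul fun v : V => by
    rw [mul_smul, mul_smul, S.scal ⟨a, ha⟩, S.scal ⟨a, ha⟩, S.semi, MonoidHom.mem_ker.1 hg,
      RingAut.one_apply]

/-- Linear maps induced by the kernel of the field action. -/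
noncomputable def toEnd : ↥S.σ.ker →* Module.End K V where
  toFun g :=
    { toFun := fun v => (g : G) • v
      map_add' := fun v w => smul_add _ v w
      map_smul' := fun c v => by rw [S.semi, MonoidHom.mem_ker.1 g.2, RingAut.one_apply, RingHom.id_apply] }
  map_one' := LinearMap.ext fun v => one_smul G v
  map_mul' g h := LinearMap.ext fun v => mul_smul (g : G) (h : G) v

@[simp] theorem toEnd_apply (g : ↥S.σ.ker) (v : V) : S.toEnd g v = (g : G) • v := rfl

theorem card_fix (g : ↥S.σ.ker) (z : ↥S.A) :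
    Nat.card {v : V // ((g : G) * z) • v = v} =
      Nat.card K ^ finrank K ((S.toEnd g).eigenspace (S.ι z)⁻¹) := by
  have hz : S.ι z ≠ 0 := by
    intro h
    obtain ⟨v, hv⟩ := exists_ne (0 : V)
    have := S.scal z v
    rw [h, zero_smul, smul_eq_zero_iff_eq] at this
    exact hv this
  rw [← Module.natCard_eq_pow_finrank]
  refine Nat.card_congr (Equiv.subtypeEquivRight fun v => ?_)
  rw [Module.End.mem_eigenspace_iff, S.toEnd_apply, mul_smul, S.scal, S.semi,
    MonoidHom.mem_ker.1 g.2, RingAut.one_apply, eq_inv_smul_iff₀ hz]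

/-- The fixed space of an element of the kernel. -/
noncomputable def fixSpace (g : ↥S.σ.ker) : Submodule K V := (S.toEnd g).eigenspace 1

theorem mem_fixSpace (g : ↥S.σ.ker) (v : V) : v ∈ S.fixSpace g ↔ (g : G) • v = v := by
  rw [fixSpace, Module.End.mem_eigenspace_iff, one_smul]; rfl

theorem three_fix_le (hodd : Odd (Nat.card G)) {x y : ↥S.σ.ker} {c : ↥S.A} (hc : c ≠ 1)
    (hxy : ⁅(x : G), (y : G)⁆ = c) : 3 * finrank K (S.fixSpace x) ≤ finrank K V := by
  have hc3 : ∀ i j : Fin 3, S.ι c ^ (i : ℕ) = S.ι c ^ (j : ℕ) → i = j := by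
    intro i j h
    rw [← map_pow, ← map_pow] at h
    have h' := pow_eq_pow_iff_modEq.1 (S.ι_injective h)
    have ho : Odd (orderOf c) :=
      hodd.of_dvd_nat ((orderOf_dvd_natCard c).trans (Subgroup.card_subgroup_dvd_card _))
    have h1 : orderOf c ≠ 1 := fun h => hc (orderOf_eq_one_iff.1 h)
    obtain ⟨k, hk⟩ := ho
    refine Fin.ext (h'.eq_of_lt_of_lt ?_ ?_) <;> omega
  have hsum := sum_finrank_eigenspace_le (S.toEnd x) (fun i : Fin 3 => S.ι c ^ (i : ℕ))
    fun i j h => hc3 i j h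
  have hle : ∀ i : Fin 3, finrank K (S.fixSpace x) ≤
      finrank K ((S.toEnd x).eigenspace (S.ι c ^ (i : ℕ))) := by
    intro i
    have hxy' : (x : G) * y = c * (y * x) := by rw [← hxy, commutatorElement_def]; group
    have hmap : ∀ (n : ℕ) (v : V), (x : G) • v = v →
        (x : G) • (y : G) ^ n • v = (S.ι c ^ n) • (y : G) ^ n • v := by
      intro n v hv
      induction n with
      | zero => simpa using hv
      | succ n ih =>
        rw [pow_succ', mul_smul, ← mul_smul, hxy', mul_smul, mul_smul, ih, S.scal, S.semi (y : G),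
          MonoidHom.mem_ker.1 y.2, RingAut.one_apply, smul_smul, ← pow_succ']
    let f : S.fixSpace x →ₗ[K] (S.toEnd x).eigenspace (S.ι c ^ (i : ℕ)) :=
      LinearMap.codRestrict _ ((S.toEnd (y ^ (i : ℕ))).comp (S.fixSpace x).subtype) fun v => by
        rw [Module.End.mem_eigenspace_iff]
        exact hmap i v.1 ((S.mem_fixSpace x v.1).1 v.2)
    refine LinearMap.finrank_le_finrank_of_injective (f := f) fun a b hab => Subtype.ext ?_
    exact MulAction.injective _ (congrArg Subtype.val hab)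
  rw [Fin.sum_univ_three] at hsum
  have := hle 0; have := hle 1; have := hle 2
  omega

theorem three_fix_le_two_mul {g b h : ↥S.σ.ker} (hh : 3 * finrank K (S.fixSpace h) ≤ finrank K V)
    (hghb : (h : G) = ⁅(g : G), (b : G)⁆) : 3 * finrank K (S.fixSpace g) ≤ 2 * finrank K V := by
  have hinj : Function.Injective (S.toEnd b) := fun v w h => MulAction.injective (b : G) h
  have hrank : finrank K ((S.fixSpace g).map (S.toEnd b)) = finrank K (S.fixSpace g) :=
    ((Submodule.equivMapOfInjective _ hinj _).finrank_eq).symm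
  have hle : S.fixSpace g ⊓ (S.fixSpace g).map (S.toEnd b) ≤ S.fixSpace h := by
    rintro v ⟨hv, w, hw, rfl⟩
    rw [SetLike.mem_coe, S.mem_fixSpace] at hv hw
    rw [S.mem_fixSpace, hghb, commutatorElement_def]
    simp only [toEnd_apply] at hv ⊢
    rw [mul_smul, mul_smul, mul_smul, inv_smul_smul, inv_smul_eq_iff.2 hw.symm, hv]
  have h1 := Submodule.finrank_sup_add_finrank_inf_eq (S.fixSpace g) ((S.fixSpace g).map (S.toEnd b))
  have h2 := Submodule.finrank_mono hle
  have h3 := Submodule.finrank_le (S.fixSpace g ⊔ (S.fixSpace g).map (S.toEnd b))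
  omega

/-- The number of non-zero fixed pairs in a coset of `A`, inside the kernel. -/
theorem coset_sum_in (g : ↥S.σ.ker) (L : ℕ) (hd : finrank K V ≤ 2 * L) [Fintype ↥S.A]
    (hfix : ∀ z : ↥S.A, 3 * finrank K ((S.toEnd g).eigenspace (S.ι z)⁻¹) ≤ 2 * finrank K V)
    (hL : 2 * finrank K V / 3 ≤ L) :
    ∑ z : ↥S.A, ((Nat.card {v : V // ((g : G) * z) • v = v}) ^ 2 - 1) ≤
      2 * ((Nat.card K ^ 2) ^ L - 1) := by
  classical
  have hsum := sum_finrank_eigenspace_le (S.toEnd g) (fun z : ↥S.A => (S.ι z)⁻¹)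
    fun a b h => S.ι_injective (inv_injective h)
  have hd0 : 0 < finrank K V := finrank_pos
  have hQ : 1 ≤ Nat.card K ^ 2 := Nat.one_le_pow _ _ Nat.card_pos
  refine Nat.le_of_mul_le_mul_left ?_ (by omega : 0 < L)
  calc L * ∑ z : ↥S.A, ((Nat.card {v : V // ((g : G) * z) • v = v}) ^ 2 - 1)
      ≤ ∑ z : ↥S.A, finrank K ((S.toEnd g).eigenspace (S.ι z)⁻¹) * ((Nat.card K ^ 2) ^ L - 1) := by
        rw [Finset.mul_sum]
        refine Finset.sum_le_sum fun z _ => ?_
        rw [S.card_fix, ← pow_mul, mul_comm _ 2, pow_mul]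
        exact mul_sub_one_le hQ (by have := hfix z; omega)
    _ ≤ finrank K V * ((Nat.card K ^ 2) ^ L - 1) := by
        rw [← Finset.sum_mul]; exact Nat.mul_le_mul_right _ hsum
    _ ≤ (2 * L) * ((Nat.card K ^ 2) ^ L - 1) := Nat.mul_le_mul_right _ hd
    _ = L * (2 * ((Nat.card K ^ 2) ^ L - 1)) := by ring

theorem card_A_lt : Nat.card ↥S.A < Nat.card K := by
  refine lt_of_le_of_lt (Nat.card_le_card_of_injective
    (fun a => (⟨S.ι a, fun h => ?_⟩ : {c : K // c ≠ 0})) fun a b h => S.ι_injective (congrArg Subtype.val h))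
    (Finite.card_subtype_lt (x := (0 : K)) fun h => h rfl)
  obtain ⟨v, hv⟩ := exists_ne (0 : V)
  have := S.scal a v
  rw [h, zero_smul, smul_eq_zero_iff_eq] at this
  exact hv this

/-- The number of non-zero fixed pairs in a coset of `A`, outside the kernel. -/
theorem coset_sum_out {g : G} (hg : g ∉ S.σ.ker) (L : ℕ) (hd : finrank K V + 1 ≤ 2 * L) [Fintype ↥S.A] :
    ∑ z : ↥S.A, ((Nat.card {v : V // (g * z) • v = v}) ^ 2 - 1) ≤
      2 * ((Nat.card K ^ 2) ^ L - 1) := by
  have hV : Nat.card V = Nat.card K ^ finrank K V := Module.natCard_eq_pow_finrank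
  have hone : ∀ z : ↥S.A, (Nat.card {v : V // (g * z) • v = v}) ^ 2 ≤ Nat.card V := by
    intro z
    have hmem : g * z ∉ S.σ.ker := fun h => hg (by
      simpa using S.σ.ker.mul_mem h (S.σ.ker.inv_mem (S.A_le_ker z.2)))
    obtain ⟨c, hc⟩ : ∃ c, S.σ (g * z) c ≠ c := by
      by_contra h
      push Not at h
      exact hmem (MonoidHom.mem_ker.2 (RingEquiv.ext h))
    rw [pow_two, ← Nat.card_prod]
    refine Nat.card_le_card_of_injective (fun p => p.1.1 + c • p.2.1) ?_
    rintro ⟨⟨a, ha⟩, ⟨b, hb⟩⟩ ⟨⟨a', ha'⟩, ⟨b', hb'⟩⟩ h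
    simp only at h
    have h1 : a - a' = c • (b' - b) := by
      rw [smul_sub, sub_eq_iff_eq_add, sub_add_eq_add_sub, eq_sub_iff_add_eq, h]; abel
    have h2 := congrArg ((g * (z : G)) • ·) h1
    simp only [smul_sub (g * (z : G)), ha, ha', S.semi, hb, hb'] at h2
    rw [h1, ← sub_eq_zero, ← sub_smul] at h2
    rcases smul_eq_zero.1 h2 with h3 | h3
    · exact absurd (sub_eq_zero.1 h3).symm hc
    · rw [sub_eq_zero] at h3
      subst h3
      rw [sub_self, smul_zero, sub_eq_zero] at h1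
      subst h1
      rfl
  have hAlt := S.card_A_lt
  have hQd : Nat.card K ^ finrank K V * Nat.card K ≤ (Nat.card K ^ 2) ^ L := by
    rw [← pow_succ, ← pow_mul]
    exact Nat.pow_le_pow_right Nat.card_pos hd
  have hpos : 1 ≤ Nat.card K ^ finrank K V := Nat.one_le_pow _ _ Nat.card_pos
  calc ∑ z : ↥S.A, ((Nat.card {v : V // (g * z) • v = v}) ^ 2 - 1)
      ≤ ∑ _z : ↥S.A, Nat.card V := Finset.sum_le_sum fun z _ => (Nat.sub_le _ _).trans (hone z)
    _ = Nat.card ↥S.A * Nat.card V := by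
        rw [Finset.sum_const, Finset.card_univ, smul_eq_mul, Nat.card_eq_fintype_card (α := ↥S.A)]
    _ ≤ (Nat.card K - 1) * Nat.card V := Nat.mul_le_mul_right _ (by omega)
    _ ≤ 2 * ((Nat.card K ^ 2) ^ L - 1) := by
        rw [hV, Nat.sub_mul, one_mul, mul_comm]
        omega

/-- The counting criterion. -/
theorem hasPair_of_cosets (hodd : Odd (Nat.card G)) (u : ℕ) [Fintype ↥S.A]
    (hcos : ∀ g : G, g ∉ S.A →
      ∑ z : ↥S.A, ((Nat.card {v : V // (g * z) • v = v}) ^ 2 - 1) ≤ 2 * (u - 1))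
    (h : S.A.index * u ≤ Nat.card V * Nat.card V) (hu : 1 ≤ u) : HasPair G V := by
  classical
  haveI := S.normal
  by_contra hcon
  have hbad : ∀ p : V × V, p ≠ 0 → ∃ g : G, g ∉ S.A ∧ g • p.1 = p.1 ∧ g • p.2 = p.2 := by
    intro p hp
    by_contra hh
    push Not at hh
    refine hcon ⟨p.1, p.2, fun g h1 h2 => ?_⟩
    by_cases hg : g ∈ S.A
    · intro x
      rw [S.scal ⟨g, hg⟩] at h1 h2
      have : S.ι ⟨g, hg⟩ = 1 := by
        by_cases hv : p.1 = 0
        · have hw : p.2 ≠ 0 := fun hw => hp (Prod.ext hv hw)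
          exact smul_left_injective K hw (h2.trans (one_smul K _).symm)
        · exact smul_left_injective K hv (h1.trans (one_smul K _).symm)
      rw [S.scal ⟨g, hg⟩, this, one_smul]
    · exact absurd h2 (hh g hg h1)
  choose g hgA hg1 hg2 using hbad
  have hQodd : Odd (Nat.card (G ⧸ S.A)) := hodd.of_dvd_nat (Subgroup.card_quotient_dvd_card _)
  haveI := Fintype.ofFinite (G ⧸ S.A)
  have hne : ∀ p hp, ((g p hp : G) : G ⧸ S.A) ≠ 1 := fun p hp h =>
    hgA p hp ((QuotientGroup.eq_one_iff _).1 h)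
  have hmem : ∀ h : G, (Quotient.out (h : G ⧸ S.A))⁻¹ * h ∈ S.A := fun h =>
    QuotientGroup.eq.1 (QuotientGroup.out_eq' (h : G ⧸ S.A))
  let T : {q : G ⧸ S.A // q ≠ 1} → ↥S.A → Type := fun q z =>
    {p : V × V // p ≠ 0 ∧ (q.1.out * z) • p.1 = p.1 ∧ (q.1.out * z) • p.2 = p.2}
  let mkT : ∀ (h : G) (hh : (h : G ⧸ S.A) ≠ 1) (p : V × V), p ≠ 0 → h • p.1 = p.1 → h • p.2 = p.2 →
      Σ q, Σ z, T q z := fun h hh p hp e1 e2 =>
    ⟨⟨(h : G ⧸ S.A), hh⟩, ⟨_, hmem h⟩, ⟨p, hp, by rw [mul_inv_cancel_left]; exact ⟨e1, e2⟩⟩⟩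
  let φ : {p : V × V // p ≠ 0} × Bool → Σ q, Σ z, T q z := fun t =>
    if t.2 then mkT (g t.1.1 t.1.2) (hne _ _) t.1.1 t.1.2 (hg1 _ _) (hg2 _ _)
    else mkT (g t.1.1 t.1.2)⁻¹ (by rw [QuotientGroup.mk_inv, inv_ne_one]; exact hne _ _) t.1.1 t.1.2
      (inv_smul_eq_iff.2 (hg1 _ _).symm) (inv_smul_eq_iff.2 (hg2 _ _).symm)
  have hφ : Function.Injective φ := by
    rintro ⟨⟨p, hp⟩, i⟩ ⟨⟨p', hp'⟩, i'⟩ he
    have hpp : p = p' := by
      have := congrArg (fun t => (t.2.2.1 : V × V)) he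
      cases i <;> cases i' <;> simpa [φ, mkT] using this
    subst hpp
    have h2 := congrArg (fun t => (t.1.1 : G ⧸ S.A)) he
    cases i <;> cases i' <;> simp [φ, mkT] at h2 ⊢
    · exact inv_ne_self_of_odd hQodd (hne p hp) h2
    · exact inv_ne_self_of_odd hQodd (hne p hp) h2.symm
  haveI : ∀ q z, Finite (T q z) := fun q z => Subtype.finite
  have hT : ∀ q z, Nat.card (T q z) = (Nat.card {v : V // (q.1.out * (z : G)) • v = v}) ^ 2 - 1 := by
    intro q z
    haveI := Fintype.ofFinite {v : V // (q.1.out * (z : G)) • v = v}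
    let z0 : {v : V // (q.1.out * (z : G)) • v = v} × {v : V // (q.1.out * (z : G)) • v = v} :=
      (⟨0, smul_zero _⟩, ⟨0, smul_zero _⟩)
    rw [pow_two, ← Nat.card_prod, Nat.card_eq_fintype_card (α := _ × _)]
    have h1 : Nat.card (T q z) = Nat.card {t : {v : V // (q.1.out * (z : G)) • v = v} ×
        {v : V // (q.1.out * (z : G)) • v = v} // t ≠ z0} := by
      refine Nat.card_congr
        { toFun := fun t => ⟨(⟨t.1.1, t.2.2.1⟩, ⟨t.1.2, t.2.2.2⟩), fun h => t.2.1 (Prod.ext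
            (congrArg (fun u => (u.1.1 : V)) h) (congrArg (fun u => (u.2.1 : V)) h))⟩
          invFun := fun t => ⟨(t.1.1.1, t.1.2.1), fun h => t.2 (Prod.ext
            (Subtype.ext (congrArg Prod.fst h)) (Subtype.ext (congrArg Prod.snd h))), t.1.1.2, t.1.2.2⟩
          left_inv := fun t => rfl
          right_inv := fun t => rfl }
    rw [h1, Nat.card_eq_fintype_card, Fintype.card_subtype_compl, Fintype.card_subtype_eq]
  have h1 := Nat.card_le_card_of_injective φ hφ
  haveI := Fintype.ofFinite V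
  rw [Nat.card_prod, Nat.card_eq_fintype_card (α := Bool), Fintype.card_bool, Nat.card_sigma] at h1
  simp only [Nat.card_sigma, hT] at h1
  have h2 := h1.trans (Finset.sum_le_sum fun q _ => hcos q.1.out fun hq => q.2 (by
    rw [← QuotientGroup.out_eq' q.1]; exact (QuotientGroup.eq_one_iff _).2 hq))
  rw [Finset.sum_const, Finset.card_univ, smul_eq_mul, Fintype.card_subtype_compl,
    Fintype.card_subtype_eq, Nat.card_eq_fintype_card (α := {p : V × V // p ≠ 0}),
    Fintype.card_subtype_compl, Fintype.card_subtype_eq, Fintype.card_prod] at h2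
  rw [Subgroup.index, Nat.card_eq_fintype_card, Nat.card_eq_fintype_card (α := V)] at h
  have hq1 : 1 ≤ Fintype.card (G ⧸ S.A) := Fintype.card_pos
  obtain ⟨a, ha⟩ : ∃ a, Fintype.card (G ⧸ S.A) = a + 1 := ⟨_, (Nat.sub_add_cancel hq1).symm⟩
  obtain ⟨b, hb⟩ : ∃ b, u = b + 1 := ⟨_, (Nat.sub_add_cancel hu).symm⟩
  rw [ha, hb, Nat.add_sub_cancel, Nat.add_sub_cancel] at h2
  rw [ha, hb] at h
  have hV2 : 2 * 2 ≤ Fintype.card V * Fintype.card V :=
    Nat.mul_le_mul Fintype.one_lt_card Fintype.one_lt_card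
  rw [add_one_mul, mul_add_one, show a * (2 * b) = 2 * (a * b) by ring] at *
  have : a = 0 → a * b = 0 := fun h => by simp [h]
  omega

end Frame

end H35.OddBase
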