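import Cfsg.Agent.H35.OddBase.Small
import Cfsg.Agent.H16.OddOrder

/-!
The regular orbit on subsets for permutation groups of odd order, relative to bases of size two.
-/

set_option autoImplicit false
set_option linter.style.haveILetI false

namespace H35.OddBase

open MulAction
open scoped Pointwise commutatorElement

/-- Bases of size two exist for all odd order completely reducible actions on at most `n` vectors. -/
def PairUpTo (n : ℕ) : Prop :=
  ∀ (G V : Type) [Group G] [Finite G] [AddCommGroup V] [Finite V] [DistribMulAction G V],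
    Odd (Nat.card G) → IsCR G V → Nat.card V ≤ n → HasPair G V

/-- Distinguishing sets exist for all odd order permutation groups of degree at most `n`. -/
def SetUpTo (n : ℕ) : Prop :=
  ∀ (G X : Type) [Group G] [Finite G] [MulAction G X] [Finite X],
    Odd (Nat.card G) → Nat.card X ≤ n → HasSet G X

/-- Reduction to the blocks of a block system. -/
theorem hasSet_of_blocks {G X Y : Type} [Group G] [Finite G] [MulAction G X] [Finite X]
    [MulAction G Y] [Finite Y] (hodd : Odd (Nat.card G)) (f : X → Y)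
    (hf : ∀ (g : G) x, f (g • x) = g • f x) (hs : Function.Surjective f) (hY : 1 < Nat.card Y)
    (hYX : Nat.card Y < Nat.card X) (hset : ∀ m < Nat.card X, SetUpTo m) : HasSet G X := by
  classical
  have hT : HasSet G Y := hset _ hYX G Y hodd le_rfl
  have hinv : ∀ (g : G) (x : X), f (g⁻¹ • x) = g⁻¹ • f x := fun g x => hf _ x
  let F : Y → Set (Set X) := fun y => {S | ∀ x ∈ S, f x = y}
  let Triv : G → Y → Prop := fun g y => ∀ x, f x = y → g • x = x
  have hF : ∀ (g : G) (y : Y), ∀ S ∈ F y, g • S ∈ F (g • y) := by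
    rintro g y S hS _ ⟨x, hx, rfl⟩
    rw [hf, hS x hx]
  have hTriv : ∀ (t g : G) (y : Y), Triv (t⁻¹ * g * t) y → Triv g (t • y) := by
    intro t g y h x hx
    have := h (t⁻¹ • x) (by rw [hf, hx, inv_smul_smul])
    rw [mul_smul, mul_smul, smul_inv_smul] at this
    exact MulAction.injective t⁻¹ this
  have hreg : ∀ y : Y, ∃ a b : Set X, a ∈ F y ∧ b ∈ F y ∧
      (∀ g : G, g • y = y → g • a = a → Triv g y) ∧
      (∀ g : G, g • y = y → g • b = b → Triv g y) ∧
      ∀ g : G, g • y = y → g • a ≠ b := by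
    intro y
    let B : SubMulAction ↥(stabilizer G y) X :=
      ⟨{x | f x = y}, fun g x hx => by
        show f ((g : G) • x) = y
        rw [hf, show f x = y from hx]; exact g.2⟩
    have hlt : Nat.card ↥B < Nat.card X := by
      haveI : Nontrivial Y := Finite.one_lt_card_iff_nontrivial.1 hY
      obtain ⟨y', hy'⟩ := exists_ne y
      obtain ⟨x', hx'⟩ := hs y'
      exact Finite.card_subtype_lt (x := x') fun h => hy' (hx'.symm.trans h)
    obtain ⟨S, hS⟩ := hset _ hlt ↥(stabilizer G y) ↥B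
      (hodd.of_dvd_nat (Subgroup.card_subgroup_dvd_card _)) le_rfl
    let a : Set X := {x | ∃ h : f x = y, (⟨x, h⟩ : ↥B) ∈ S}
    let b : Set X := {x | ∃ h : f x = y, (⟨x, h⟩ : ↥B) ∉ S}
    have key : ∀ (g : G), g • y = y → g • a = a → Triv g y := by
      intro g hg ha x hx
      have h := hS ⟨g, hg⟩ (fun z => ?_) ⟨x, hx⟩
      · exact congrArg Subtype.val h
      · obtain ⟨z, hz⟩ := z
        constructor
        · intro h
          have hgz : g • z ∈ g • a := ha.symm ▸ (⟨((⟨g, hg⟩ : stabilizer G y) • (⟨z, hz⟩ : ↥B)).2, h⟩ :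
            g • z ∈ a)
          obtain ⟨hh, hh'⟩ := Set.smul_mem_smul_set_iff.1 hgz
          exact hh'
        · intro h
          have hgz : g • z ∈ a := ha ▸ Set.smul_mem_smul_set (⟨hz, h⟩ : z ∈ a)
          obtain ⟨hh, hh'⟩ := hgz
          exact hh'
    have keyb : ∀ (g : G), g • y = y → g • b = b → g • a = a := by
      intro g hg hb
      ext x
      rw [Set.mem_smul_set_iff_inv_smul_mem]
      have h1 : f (g⁻¹ • x) = y ↔ f x = y := by
        rw [hf, inv_smul_eq_iff, hg]
      have h2 : g⁻¹ • x ∈ b ↔ x ∈ b := by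
        conv_rhs => rw [← hb]
        rw [Set.mem_smul_set_iff_inv_smul_mem]
      constructor
      · rintro ⟨h, hS'⟩
        refine ⟨h1.1 h, ?_⟩
        by_contra hn
        obtain ⟨_, hh⟩ := h2.2 ⟨h1.1 h, hn⟩
        exact hh hS'
      · rintro ⟨h, hS'⟩
        refine ⟨h1.2 h, ?_⟩
        by_contra hn
        obtain ⟨_, hh⟩ := h2.1 ⟨h1.2 h, hn⟩
        exact hh hS'
    refine ⟨a, b, fun x hx => hx.1, fun x hx => hx.1, key, fun g hg hb => key g hg (keyb g hg hb),
      fun g hg hab => ?_⟩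
    have hba : g • b = a := by
      ext x
      rw [Set.mem_smul_set_iff_inv_smul_mem]
      have h1 : f (g⁻¹ • x) = y ↔ f x = y := by rw [hf, inv_smul_eq_iff, hg]
      have h2 : g⁻¹ • x ∈ a ↔ x ∈ b := by
        conv_rhs => rw [← hab]
        rw [Set.mem_smul_set_iff_inv_smul_mem]
      constructor
      · rintro ⟨h, hS'⟩
        refine ⟨h1.1 h, ?_⟩
        by_contra hn
        obtain ⟨_, hh⟩ := h2.2 ⟨h1.1 h, hn⟩
        exact hS' hh
      · rintro ⟨h, hS'⟩
        refine ⟨h1.2 h, fun hh => ?_⟩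
        obtain ⟨_, hh'⟩ := h2.1 ⟨h1.2 h, hh⟩
        exact hh' hS'
    have haa : g • a = a := smul_fix_of_sq_fix hodd (by rw [hab, hba])
    obtain ⟨x, hx⟩ := hs y
    have heq : a = b := haa.symm.trans hab
    by_cases hxS : (⟨x, hx⟩ : ↥B) ∈ S
    · obtain ⟨_, hh⟩ := (heq ▸ (⟨hx, hxS⟩ : x ∈ a) : x ∈ b)
      exact hh hxS
    · obtain ⟨_, hh⟩ := (heq.symm ▸ (⟨hx, hxS⟩ : x ∈ b) : x ∈ a)
      exact hxS hh
  obtain ⟨c, hc, hcfix⟩ := combine hT F hF Triv hTriv hreg
  refine ⟨{x | x ∈ c (f x)}, fun g hg x => ?_⟩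
  refine (hcfix g (fun y => ?_) (f x)).2 x rfl
  ext z
  rw [Set.mem_smul_set_iff_inv_smul_mem]
  constructor
  · intro h
    have h1 := (hg (g⁻¹ • z)).2 (show g⁻¹ • z ∈ c (f (g⁻¹ • z)) by rw [hc y _ h]; exact h)
    simp only [Set.mem_ofPred_eq, smul_inv_smul] at h1
    rwa [show f z = g • y by rw [← hc y _ h, hf, smul_inv_smul]] at h1
  · intro h
    have hfz : f z = g • y := hc _ _ h
    have h1 := (hg (g⁻¹ • z)).1 (show g • g⁻¹ • z ∈ {x | x ∈ c (f x)} by
      rw [smul_inv_smul]; show z ∈ c (f z); rw [hfz]; exact h)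
    simp only [Set.mem_ofPred_eq] at h1
    rwa [hf, hfz, inv_smul_smul] at h1

/-- An element of odd order leaves few subsets invariant. -/
theorem three_mul_orbits_le {G X : Type} [Group G] [Finite G] [MulAction G X] [Finite X]
    (hodd : Odd (Nat.card G)) (g : G) :
    3 * Nat.card (orbitRel.Quotient (Subgroup.zpowers g) X) ≤
      Nat.card X + 2 * Nat.card {x : X // g • x = x} := by
  classical
  haveI := Fintype.ofFinite X
  set Q := orbitRel.Quotient (Subgroup.zpowers g) X
  haveI := Fintype.ofFinite Q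
  let π : X → Q := Quotient.mk''
  have hsum : Fintype.card X = ∑ q : Q, (Finset.univ.filter fun x => π x = q).card := by
    rw [← Finset.card_univ]
    exact Finset.card_eq_sum_card_fiberwise fun x _ => Finset.mem_univ _
  have hfix : ∀ x, g • x = x ↔ (Finset.univ.filter fun y => π y = π x).card = 1 := by
    intro x
    constructor
    · intro h
      rw [Finset.card_eq_one]
      refine ⟨x, Finset.eq_singleton_iff_unique_mem.2 ⟨by simp, fun y hy => ?_⟩⟩
      obtain ⟨-, hy⟩ := Finset.mem_filter.1 hy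
      obtain ⟨⟨k, hk⟩, rfl⟩ := orbitRel_apply.1 (Quotient.exact hy)
      exact mem_stabilizer_iff.1 ((Subgroup.zpowers_le.2 (show g ∈ stabilizer G x from h)) hk)
    · intro h
      obtain ⟨z, hz⟩ := Finset.card_eq_one.1 h
      have hmem : ∀ y, π y = π x → y = z := fun y hy => by
        have : y ∈ Finset.univ.filter fun y => π y = π x := Finset.mem_filter.2 ⟨Finset.mem_univ _, hy⟩
        rw [hz] at this
        exact Finset.mem_singleton.1 this
      have hgx : π (g • x) = π x :=
        Quotient.sound (orbitRel_apply.2 ⟨⟨g, Subgroup.mem_zpowers g⟩, rfl⟩)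
      rw [hmem _ hgx, ← hmem x rfl]
  have hbig : ∀ q : Q, 3 ≤ (Finset.univ.filter fun x => π x = q).card +
      2 * (if (Finset.univ.filter fun x => π x = q).card = 1 then 1 else 0) := by
    intro q
    split_ifs with h
    · omega
    obtain ⟨x, rfl⟩ := Quotient.mk''_surjective q
    have hoc : (Finset.univ.filter fun y => π y = π x).card = Nat.card (orbit (Subgroup.zpowers g) x) := by
      rw [← Fintype.card_subtype, ← Nat.card_eq_fintype_card]
      exact Nat.card_congr (Equiv.subtypeEquivRight fun y =>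
        ⟨fun hy => orbitRel_apply.1 (Quotient.exact hy), fun hy => Quotient.sound (orbitRel_apply.2 hy)⟩)
    have hdvd : Nat.card (orbit (Subgroup.zpowers g) x) ∣ Nat.card G := by
      rw [Nat.card_coe_set_eq, ← index_stabilizer]
      exact (Subgroup.index_dvd_card _).trans (Subgroup.card_subgroup_dvd_card _)
    have ho := hodd.of_dvd_nat hdvd
    have hpos : 0 < Nat.card (orbit (Subgroup.zpowers g) x) :=
      Nat.card_pos_iff.2 ⟨⟨⟨x, mem_orbit_self x⟩⟩, inferInstance⟩
    obtain ⟨k, hk⟩ := ho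
    show 3 ≤ (Finset.univ.filter fun y => π y = π x).card + 2 * 0
    change ¬ (Finset.univ.filter fun y => π y = π x).card = 1 at h
    omega
  have hsing : (Finset.univ.filter fun q : Q => (Finset.univ.filter fun x => π x = q).card = 1).card ≤
      Nat.card {x : X // g • x = x} := by
    rw [← Fintype.card_subtype, ← Nat.card_eq_fintype_card]
    have hch : ∀ q : {q : Q // (Finset.univ.filter fun x => π x = q).card = 1},
        ∃ x : {x : X // g • x = x}, π x.1 = q.1 := fun q => by
      obtain ⟨x, hx⟩ := Quotient.mk''_surjective q.1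
      refine ⟨⟨x, (hfix x).2 ?_⟩, hx⟩
      rw [show π x = q.1 from hx]; exact q.2
    choose s hs using hch
    exact Nat.card_le_card_of_injective s fun a b h => Subtype.ext (by rw [← hs a, ← hs b, h])
  have h3 : ∑ _q : Q, 3 ≤ ∑ q : Q, ((Finset.univ.filter fun x => π x = q).card +
      2 * (if (Finset.univ.filter fun x => π x = q).card = 1 then 1 else 0)) :=
    Finset.sum_le_sum fun q _ => hbig q
  rw [Finset.sum_add_distrib, ← hsum, ← Finset.mul_sum, Finset.sum_boole, Finset.sum_const,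
    Finset.card_univ, smul_eq_mul, Nat.cast_id] at h3
  rw [Nat.card_eq_fintype_card (α := X), Nat.card_eq_fintype_card (α := Q)]
  omega

/-- The counting criterion. -/
theorem hasSet_of_count {G X : Type} [Group G] [Finite G] [MulAction G X] [Finite X]
    (hodd : Odd (Nat.card G)) (c : ℕ)
    (hfix : ∀ g : G, g ≠ 1 → Nat.card (orbitRel.Quotient (Subgroup.zpowers g) X) ≤ c)
    (h : Nat.card G * 2 ^ c ≤ 2 ^ (Nat.card X + 1)) : HasSet G X := by
  classical
  haveI := Fintype.ofFinite G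
  haveI := Fintype.ofFinite X
  by_contra hcon
  have hbad : ∀ S : Set X, ∃ g : G, g ≠ 1 ∧ ∀ x, g • x ∈ S ↔ x ∈ S := fun S => by
    by_contra hh
    push Not at hh
    refine hcon ⟨S, fun g hg x => ?_⟩
    by_cases h1 : g = 1
    · rw [h1, one_smul]
    · obtain ⟨z, hz⟩ := hh g h1
      exact (hz.elim (fun h' => h'.2 ((hg z).1 h'.1)) (fun h' => h'.1 ((hg z).2 h'.2))).elim
  choose g hg1 hgS using hbad
  have hinv : ∀ (S : Set X) x, (g S)⁻¹ • x ∈ S ↔ x ∈ S := fun S x => by
    conv_rhs => rw [← smul_inv_smul (g S) x]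
    exact (hgS S _).symm
  let φ : Set X × Bool → Σ a : {a : G // a ≠ 1}, {S : Set X // ∀ x, a.1 • x ∈ S ↔ x ∈ S} := fun t =>
    if t.2 then ⟨⟨g t.1, hg1 _⟩, ⟨t.1, hgS _⟩⟩
    else ⟨⟨(g t.1)⁻¹, inv_ne_one.2 (hg1 _)⟩, ⟨t.1, hinv _⟩⟩
  have hφ : Function.Injective φ := by
    rintro ⟨S, i⟩ ⟨S', i'⟩ he
    have hS : S = S' := by
      have := congrArg (fun t => (t.2.1 : Set X)) he
      cases i <;> cases i' <;> simpa [φ] using this
    subst hS
    have h2 := congrArg (fun t => t.1.1) he
    cases i <;> cases i' <;> simp [φ] at h2 ⊢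
    · exact inv_ne_self_of_odd hodd (hg1 S) h2
    · exact inv_ne_self_of_odd hodd (hg1 S) h2.symm
  have hcount : ∀ a : G, a ≠ 1 → Nat.card {S : Set X // ∀ x, a • x ∈ S ↔ x ∈ S} ≤ 2 ^ c := by
    intro a ha
    let Q := orbitRel.Quotient (Subgroup.zpowers a) X
    haveI := Fintype.ofFinite Q
    calc Nat.card {S : Set X // ∀ x, a • x ∈ S ↔ x ∈ S} ≤ Nat.card (Set Q) := by
          refine Nat.card_le_card_of_injective (fun S => Quotient.mk'' '' S.1) fun S T hST => ?_
          have key : ∀ (S : {S : Set X // ∀ x, a • x ∈ S ↔ x ∈ S}) (x : X),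
              (Quotient.mk'' x : Q) ∈ Quotient.mk'' '' S.1 ↔ x ∈ S.1 := by
            intro S x
            refine ⟨?_, fun hx => ⟨x, hx, rfl⟩⟩
            rintro ⟨z, hz, hzx⟩
            obtain ⟨⟨k, hk⟩, hkz⟩ := orbitRel_apply.1 (Quotient.exact hzx)
            have hstab : k ∈ stabilizer G S.1 := by
              refine Subgroup.zpowers_le.2 ?_ hk
              rw [mem_stabilizer_iff]
              ext w
              rw [Set.mem_smul_set_iff_inv_smul_mem]
              conv_rhs => rw [← smul_inv_smul a w]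
              exact (S.2 _).symm
            rw [← mem_stabilizer_iff.1 hstab] at hz
            rw [show z = k • x from hkz.symm] at hz
            exact Set.smul_mem_smul_set_iff.1 hz
          refine Subtype.ext (Set.ext fun x => ?_)
          rw [← key S x, ← key T x]
          simp only at hST
          rw [hST]
      _ ≤ 2 ^ c := by
          rw [Nat.card_eq_fintype_card, Fintype.card_set, ← Nat.card_eq_fintype_card]
          exact Nat.pow_le_pow_right two_pos (hfix a ha)
  have h1 := Nat.card_le_card_of_injective φ hφ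
  rw [Nat.card_prod, Nat.card_eq_fintype_card (α := Bool), Fintype.card_bool, Nat.card_sigma] at h1
  have h2 := h1.trans (Finset.sum_le_sum fun a _ => hcount a.1 a.2)
  rw [Finset.sum_const, Finset.card_univ, smul_eq_mul, Fintype.card_subtype_compl,
    Fintype.card_subtype_eq, Nat.card_eq_fintype_card (α := Set X), Fintype.card_set,
    ← Nat.card_eq_fintype_card, ← Nat.card_eq_fintype_card] at h2
  rw [pow_succ] at h
  have hG1 : 1 ≤ Nat.card G := Nat.card_pos
  have : (Nat.card G - 1) * 2 ^ c < Nat.card G * 2 ^ c :=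
    Nat.mul_lt_mul_of_pos_right (by omega) (by positivity)
  omega

theorem cube_le_two_pow (n : ℕ) (h : 7 ≤ n) : n ^ 3 ≤ 2 ^ (n + 2) := by
  induction n, h using Nat.le_induction with
  | base => norm_num
  | succ k hk ih =>
    have : (k + 1) ^ 3 ≤ 2 * k ^ 3 := by nlinarith [Nat.mul_le_mul hk hk]
    calc (k + 1) ^ 3 ≤ 2 * k ^ 3 := this
      _ ≤ 2 * 2 ^ (k + 2) := by omega
      _ = 2 ^ (k + 1 + 2) := by ring

theorem big_le_two_pow (n : ℕ) (h : 28 ≤ n) : n ^ 27 ≤ 2 ^ (4 * n + 18) := by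
  induction n, h using Nat.le_induction with
  | base => norm_num
  | succ k hk ih =>
    have h1 : ((k + 1) * 28) ^ 27 ≤ (k * 29) ^ 27 := Nat.pow_le_pow_left (by omega) _
    have h2 : 29 ^ 27 ≤ 16 * 28 ^ 27 := by norm_num
    rw [mul_pow, mul_pow] at h1
    have h3 : (k + 1) ^ 27 * 28 ^ 27 ≤ k ^ 27 * 16 * 28 ^ 27 := by
      rw [mul_assoc (k ^ 27)]; exact h1.trans (Nat.mul_le_mul_left _ h2)
    have h4 : (k + 1) ^ 27 ≤ k ^ 27 * 16 := Nat.le_of_mul_le_mul_right h3 (by positivity)
    calc (k + 1) ^ 27 ≤ k ^ 27 * 16 := h4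
      _ ≤ 2 ^ (4 * k + 18) * 16 := Nat.mul_le_mul_right _ ih
      _ = 2 ^ (4 * (k + 1) + 18) := by ring

/-- The conjugation action of a subgroup on an abelian normal subgroup, additively. -/
abbrev conjAct {G : Type} [Group G] (H N : Subgroup G) [N.Normal] :
    DistribMulAction ↥H (Additive ↥N) where
  smul h a := Additive.ofMul (MulAut.conjNormal (h : G) a.toMul)
  one_smul a := by
    show Additive.ofMul (MulAut.conjNormal ((1 : ↥H) : G) a.toMul) = a
    rw [Subgroup.coe_one, map_one]; rfl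
  mul_smul h h' a := by
    show Additive.ofMul (MulAut.conjNormal ((h * h' : ↥H) : G) a.toMul) = _
    rw [Subgroup.coe_mul, map_mul]; rfl
  smul_zero h := by
    show Additive.ofMul (MulAut.conjNormal (h : G) (1 : ↥N)) = 0
    rw [map_one]; rfl
  smul_add h a b := by
    show Additive.ofMul (MulAut.conjNormal (h : G) (a.toMul * b.toMul)) = _
    rw [map_mul]; rfl

/-- An abelian minimal normal subgroup of a solvable group. -/
theorem exists_minimal_normal {G : Type} [Group G] [Finite G] [Nontrivial G]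
    (hs : Group.IsSolvable G) :
    ∃ N : Subgroup G, N.Normal ∧ N ≠ ⊥ ∧ IsMulCommutative N ∧
      ∀ M : Subgroup G, M.Normal → M ≤ N → M = ⊥ ∨ M = N := by
  classical
  haveI : Finite (Subgroup G) := Finite.of_injective _ SetLike.coe_injective
  have hne : {M : Subgroup G | M.Normal ∧ M ≠ ⊥}.Nonempty := ⟨⊤, inferInstance, top_ne_bot⟩
  obtain ⟨N, ⟨hN, hN0⟩, hmin⟩ := WellFounded.has_min wellFounded_lt _ hne
  have hmin' : ∀ M : Subgroup G, M.Normal → M ≤ N → M = ⊥ ∨ M = N := fun M hM hle => by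
    by_cases h : M = ⊥
    · exact Or.inl h
    right
    exact hle.eq_or_lt.resolve_right (hmin M ⟨hM, h⟩)
  refine ⟨N, hN, hN0, ?_, hmin'⟩
  haveI := hN
  rcases hmin' ⁅N, N⁆ inferInstance (Subgroup.commutator_le_left N N) with h | h
  · exact ⟨⟨fun a b => Subtype.ext (commutatorElement_eq_one_iff_mul_comm.1
      (Subgroup.mem_bot.1 (h ▸ Subgroup.commutator_mem_commutator a.2 b.2)))⟩⟩
  · exfalso
    obtain ⟨n, hn⟩ := (Group.isSolvable_def G).1 hs
    have hle : ∀ j, N ≤ derivedSeries G j := fun j => by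
      induction j with
      | zero => rw [derivedSeries_zero]; exact le_top
      | succ j ih => rw [derivedSeries_succ, ← h]; exact Subgroup.commutator_mono ih ih
    exact hN0 (eq_bot_iff.2 (hn ▸ hle n))

/-- The numerical content of the primitive case. -/
theorem primitive_count {n h p k c : ℕ} (hp : p.Prime) (hn : n = p ^ k) (hodd : Odd n)
    (hh : 2 * h ≤ n * n) (hc : 9 * c ≤ 5 * n) (hprime : k = 1 → h ∣ p - 1 ∧ 3 * c ≤ n + 2)
    (hho : Odd h) (h1 : h ≠ 1) (h9 : n ≠ 9) (h25 : n = 25 → h ≤ 15) (h27 : n = 27 → h ≤ 39) :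
    n * h * 2 ^ c ≤ 2 ^ (n + 1) := by
  by_cases hk : k = 1
  · subst hk
    rw [pow_one] at hn
    subst hn
    obtain ⟨hd, hc'⟩ := hprime rfl
    obtain ⟨m, hm⟩ := hd
    obtain ⟨a, ha⟩ := hho
    obtain ⟨b, hb⟩ := hodd
    have hm2 : 2 ≤ m := by
      by_contra hlt
      have := hp.two_le
      interval_cases m <;> omega
    have h2h : 2 * h + 1 ≤ n := by
      have := Nat.mul_le_mul_left h hm2
      omega
    have hn7 : 7 ≤ n := by omega
    have h6 : (n * n * 2 ^ c) ^ 3 ≤ (2 ^ (n + 2)) ^ 3 := by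
      calc (n * n * 2 ^ c) ^ 3 = (n ^ 3) * n ^ 3 * 2 ^ (3 * c) := by ring
        _ ≤ 2 ^ (n + 2) * 2 ^ (n + 2) * 2 ^ (n + 2) :=
            Nat.mul_le_mul (Nat.mul_le_mul (cube_le_two_pow n hn7) (cube_le_two_pow n hn7))
              (Nat.pow_le_pow_right two_pos hc')
        _ = _ := by ring
    have h7 := (Nat.pow_le_pow_iff_left three_ne_zero).1 h6
    have h8 : 2 * (n * h * 2 ^ c) ≤ n * n * 2 ^ c := by
      rw [← mul_assoc, ← mul_assoc, mul_comm 2 n, mul_assoc n 2 h]
      exact Nat.mul_le_mul_right _ (Nat.mul_le_mul_left _ (by omega))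
    rw [show 2 ^ (n + 2) = 2 ^ (n + 1) * 2 by ring] at h7
    omega
  by_cases h28 : 28 ≤ n
  · have h9' : (n ^ 3 * 2 ^ c) ^ 9 ≤ (2 ^ (n + 2)) ^ 9 := by
      calc (n ^ 3 * 2 ^ c) ^ 9 = n ^ 27 * 2 ^ (9 * c) := by ring
        _ ≤ 2 ^ (4 * n + 18) * 2 ^ (5 * n) :=
            Nat.mul_le_mul (big_le_two_pow n h28) (Nat.pow_le_pow_right two_pos hc)
        _ = _ := by ring
    have h7 := (Nat.pow_le_pow_iff_left (by norm_num : (9 : ℕ) ≠ 0)).1 h9'
    have h8 : 2 * (n * h * 2 ^ c) ≤ n ^ 3 * 2 ^ c := by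
      rw [← mul_assoc, ← mul_assoc, mul_comm 2 n, mul_assoc n 2 h, show n ^ 3 = n * (n * n) by ring]
      exact Nat.mul_le_mul_right _ (Nat.mul_le_mul_left _ hh)
    rw [show 2 ^ (n + 2) = 2 ^ (n + 1) * 2 by ring] at h7
    omega
  have hk2 : 2 ≤ k := by
    by_contra hlt
    interval_cases k
    · rw [pow_zero] at hn; subst hn; obtain ⟨a, ha⟩ := hho; omega
    · exact hk rfl
  have hp3 : 3 ≤ p := by
    rcases hp.two_le.eq_or_lt with rfl | hlt
    · exfalso; rw [hn, Nat.odd_pow_iff (by omega)] at hodd; exact absurd hodd (by decide)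
    · exact hlt
  have hp5 : p ≤ 5 := by
    by_contra hlt
    have : 6 ^ 2 ≤ p ^ k := (Nat.pow_le_pow_left (by omega : 6 ≤ p) 2).trans
      (Nat.pow_le_pow_right (by omega) hk2)
    omega
  have hk3 : k ≤ 3 := by
    by_contra hlt
    have : 3 ^ 4 ≤ p ^ k := (Nat.pow_le_pow_left hp3 4).trans (Nat.pow_le_pow_right (by omega) (by omega))
    omega
  interval_cases p <;> interval_cases k
  all_goals first
    | (exact absurd hp (by decide))
    | (norm_num at hn
       first
        | omega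
        | (subst hn
           have := h27 rfl
           calc 27 * h * 2 ^ c ≤ 27 * 39 * 2 ^ 15 := Nat.mul_le_mul (Nat.mul_le_mul_left _ this)
                 (Nat.pow_le_pow_right two_pos (by omega))
             _ ≤ _ := by norm_num)
        | (subst hn
           have := h25 rfl
           calc 25 * h * 2 ^ c ≤ 25 * 15 * 2 ^ 13 := Nat.mul_le_mul (Nat.mul_le_mul_left _ this)
                 (Nat.pow_le_pow_right two_pos (by omega))
             _ ≤ _ := by norm_num))

/-- Gluck's theorem for odd order groups, given bases of size two in degree at most `n`. -/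
theorem setUpTo_step (n : ℕ) (hpair : PairUpTo n) (hset : ∀ m < n, SetUpTo m) : SetUpTo n := by
  intro G0 X _ _ _ _ hodd0 hle
  rcases hle.lt_or_eq with hlt | heq
  · exact hset _ hlt G0 X hodd0 le_rfl
  classical
  by_cases hsmall : Nat.card X ≤ 2
  · refine ⟨∅, fun g _ x => smul_fix_of_sq_fix hodd0 ?_⟩
    by_contra hne
    haveI := Fintype.ofFinite X
    have h3 : ({g • g • x, g • x, x} : Finset X).card = 3 := by
      have h1 : g • x ≠ x := fun h => hne (by rw [h, h])
      have h2 : g • g • x ≠ g • x := fun h => h1 (MulAction.injective g h)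
      rw [Finset.card_insert_of_notMem (by simp [hne, h2]), Finset.card_insert_of_notMem (by simp [h1]),
        Finset.card_singleton]
    have := Finset.card_le_univ ({g • g • x, g • x, x} : Finset X)
    rw [Nat.card_eq_fintype_card] at hsmall
    omega
  rw [← heq] at hpair hset
  -- pass to the permutation group
  let G : Subgroup (Equiv.Perm X) := (MulAction.toPermHom G0 X).range
  suffices hG : HasSet ↥G X by
    obtain ⟨S, hS⟩ := hG
    exact ⟨S, fun g hg x => hS ⟨MulAction.toPermHom G0 X g, ⟨g, rfl⟩⟩ hg x⟩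
  have hodd : Odd (Nat.card ↥G) := hodd0.of_dvd_nat (Subgroup.card_range_dvd _)
  by_cases htrans : ∀ x y : X, ∃ g : ↥G, g • x = y
  swap
  · push Not at htrans
    obtain ⟨x₀, y₀, hxy⟩ := htrans
    letI act : MulAction ↥G Bool :=
      { smul := fun _ b => b, one_smul := fun _ => rfl, mul_smul := fun _ _ _ => rfl }
    refine hasSet_of_blocks hodd (Y := Bool) (fun x => decide (x ∈ orbit ↥G x₀)) (fun g x => ?_)
      (fun b => ?_) (by simp) (by simp; omega) hset
    · show decide (g • x ∈ orbit ↥G x₀) = decide (x ∈ orbit ↥G x₀)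
      have : g • x ∈ orbit ↥G x₀ ↔ x ∈ orbit ↥G x₀ :=
        ⟨fun h => by simpa using mem_orbit_of_mem_orbit g⁻¹ h, fun h => mem_orbit_of_mem_orbit g h⟩
      simp [this]
    · cases b
      · exact ⟨y₀, decide_eq_false fun ⟨g, hg⟩ => hxy g hg⟩
      · exact ⟨x₀, decide_eq_true (mem_orbit_self x₀)⟩
  haveI hpre : IsPretransitive ↥G X := ⟨fun x y => htrans x y⟩
  haveI : Nonempty X := (Nat.card_pos_iff.1 (by omega : 0 < Nat.card X)).1
  let x₀ : X := Classical.arbitrary X
  set H := stabilizer ↥G x₀ with hH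
  have hHidx : H.index = Nat.card X := index_stabilizer_of_transitive ↥G x₀
  by_cases hmax : ∀ M : Subgroup ↥G, H < M → M = ⊤
  swap
  · push Not at hmax
    obtain ⟨M, hHM, hM⟩ := hmax
    choose rep hrep using fun x => htrans x₀ x
    refine hasSet_of_blocks hodd (Y := ↥G ⧸ M) (fun x => (rep x : ↥G ⧸ M)) (fun g x => ?_)
      (fun y => ?_) ?_ ?_ hset
    · rw [MulAction.Quotient.smul_mk, QuotientGroup.eq]
      refine hHM.le ?_
      rw [hH, mem_stabilizer_iff, mul_smul, inv_smul_eq_iff, hrep, smul_eq_mul, mul_smul, hrep]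
    · obtain ⟨g, rfl⟩ := QuotientGroup.mk_surjective y
      refine ⟨g • x₀, QuotientGroup.eq.2 (hHM.le ?_)⟩
      rw [hH, mem_stabilizer_iff, mul_smul, inv_smul_eq_iff, hrep]
    · exact Subgroup.one_lt_index_of_ne_top hM
    · rw [← hHidx]; exact Subgroup.index_strictAnti hHM
  haveI : Nontrivial ↥G := by
    by_contra hnt
    rw [not_nontrivial_iff_subsingleton] at hnt
    haveI : Subsingleton X := ⟨fun x y => by
      obtain ⟨g, rfl⟩ := htrans x y
      rw [Subsingleton.elim g 1, one_smul]⟩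
    have := Finite.card_le_one_iff_subsingleton.2 (inferInstance : Subsingleton X)
    omega
  obtain ⟨N, hN, hN0, hNc, hNmin⟩ := exists_minimal_normal (H16.FT.oddOrder hodd)
  haveI := hN
  letI : CommGroup ↥N := { (inferInstance : Group ↥N) with mul_comm := fun a b => mul_comm' a b }
  have hfaith : ∀ g : ↥G, (∀ x : X, g • x = x) → g = 1 := fun g hg => eq_of_smul_eq_smul fun x => by
    rw [hg, one_smul]
  have hNH : ¬ N ≤ H := by
    intro hle'
    refine hN0 ((Subgroup.eq_bot_iff_forall _).2 fun a ha => hfaith a fun x => ?_)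
    obtain ⟨g, rfl⟩ := htrans x₀ x
    have h1 : g⁻¹ * a * g ∈ H := hle' (by simpa using hN.conj_mem a ha g⁻¹)
    rw [hH, mem_stabilizer_iff, mul_smul, mul_smul, inv_smul_eq_iff] at h1
    exact h1
  have hsup : H ⊔ N = ⊤ := hmax _ (lt_of_le_of_ne le_sup_left fun h => hNH (h.symm ▸ le_sup_right))
  have hnorm : ∀ U : Subgroup ↥G, U ≤ N → (∀ h ∈ H, ∀ u ∈ U, h * u * h⁻¹ ∈ U) → U.Normal := by
    intro U hU hinv
    refine ⟨fun u hu g => ?_⟩
    obtain ⟨h, hh, a, ha, rfl⟩ := Subgroup.mem_sup_of_normal_right.1 (hsup ▸ Subgroup.mem_top g :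
      g ∈ H ⊔ N)
    have hau : a * u * a⁻¹ = u := by
      rw [mul_inv_eq_iff_eq_mul]
      simpa using congrArg Subtype.val (mul_comm' (⟨a, ha⟩ : ↥N) ⟨u, hU hu⟩)
    rw [show h * a * u * (h * a)⁻¹ = h * (a * u * a⁻¹) * h⁻¹ by group, hau]
    exact hinv h hh u hu
  have hdisj : N ⊓ H = ⊥ := by
    rcases hNmin _ (hnorm (N ⊓ H) inf_le_left fun h hh u hu =>
      ⟨hN.conj_mem u hu.1 h, H.mul_mem (H.mul_mem hh hu.2) (H.inv_mem hh)⟩) inf_le_left with h | h
    · exact h
    · exact absurd (inf_eq_left.1 h) hNH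
  have hbij : Function.Bijective fun a : ↥N => (a : ↥G) • x₀ := by
    constructor
    · intro a b hab
      have h1 : (b : ↥G)⁻¹ * a ∈ N ⊓ H := ⟨N.mul_mem (N.inv_mem b.2) a.2, by
        rw [hH]; show ((b : ↥G)⁻¹ * a) • x₀ = x₀
        rw [mul_smul, inv_smul_eq_iff]; exact hab⟩
      rw [hdisj, Subgroup.mem_bot, inv_mul_eq_one] at h1
      exact Subtype.ext h1.symm
    · intro x
      obtain ⟨g, rfl⟩ := htrans x₀ x
      obtain ⟨a, ha, h, hh, rfl⟩ := Subgroup.mem_sup_of_normal_left.1
        ((sup_comm H N ▸ hsup) ▸ Subgroup.mem_top g : g ∈ N ⊔ H)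
      exact ⟨⟨a, ha⟩, by
        show a • x₀ = (a * h) • x₀
        rw [mul_smul, show h • x₀ = x₀ from mem_stabilizer_iff.1 (hH ▸ hh)]⟩
  have hNcard : Nat.card ↥N = Nat.card X := Nat.card_eq_of_bijective _ hbij
  have hGcard : Nat.card ↥G = Nat.card X * Nat.card ↥H := by
    rw [← Subgroup.index_mul_card H, hHidx]
  letI := conjAct H N
  have hsmul : ∀ (h : ↥H) (a : ↥N),
      (h • Additive.ofMul a).toMul = ⟨(h : ↥G) * a * (h : ↥G)⁻¹, hN.conj_mem a a.2 h⟩ :=
    fun h a => Subtype.ext (MulAut.conjNormal_apply _ _)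
  have hfaithN : FaithfulSMul ↥H (Additive ↥N) := ⟨fun {h h'} heq => by
    have hc : ∀ a : ↥N, ((h'⁻¹ * h : ↥H) : ↥G) * a * ((h'⁻¹ * h : ↥H) : ↥G)⁻¹ = a := fun a => by
      have h1 : (h'⁻¹ * h) • Additive.ofMul a = Additive.ofMul a := by
        rw [mul_smul, heq, inv_smul_smul]
      have := congrArg (fun t => ((Additive.toMul t : ↥N) : ↥G)) h1
      simpa [hsmul] using this
    set u : ↥G := ((h'⁻¹ * h : ↥H) : ↥G)
    have hu : u = 1 := hfaith u fun x => by
      obtain ⟨a, rfl⟩ := hbij.2 x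
      show u • (a : ↥G) • x₀ = (a : ↥G) • x₀
      rw [← mul_smul, mul_inv_eq_iff_eq_mul.1 (hc a), mul_smul,
        show u • x₀ = x₀ from mem_stabilizer_iff.1 (hH ▸ (h'⁻¹ * h).2)]
    exact (inv_mul_eq_one.1 (Subtype.ext hu)).symm⟩
  have hNnt : Nontrivial ↥N := (Subgroup.nontrivial_iff_ne_bot N).2 hN0
  have hirr : IsIrr ↥H (Additive ↥N) := by
    refine ⟨inferInstance, fun U hU => ?_⟩
    let U' : Subgroup ↥G := (AddSubgroup.toSubgroup' U).map N.subtype
    have hU' : U'.Normal := hnorm U' (Subgroup.map_subtype_le _) (by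
      rintro h hh _ ⟨a, ha, rfl⟩
      exact ⟨MulAut.conjNormal h a, hU ⟨h, hh⟩ (Additive.ofMul a) ha, MulAut.conjNormal_apply _ _⟩)
    rcases hNmin U' hU' (Subgroup.map_subtype_le _) with h | h
    · left
      refine (AddSubgroup.eq_bot_iff_forall _).2 fun a ha => ?_
      have : (a.toMul : ↥G) ∈ U' := ⟨a.toMul, ha, rfl⟩
      rw [h, Subgroup.mem_bot] at this
      exact congrArg Additive.ofMul (Subtype.ext this : a.toMul = 1)
    · right
      refine (AddSubgroup.eq_top_iff' _).2 fun a => ?_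
      have : (a.toMul : ↥G) ∈ U' := h.symm ▸ a.toMul.2
      obtain ⟨b, hb, hba⟩ := this
      have : b = a.toMul := Subtype.ext hba
      rw [this] at hb
      exact hb
  have hHodd : Odd (Nat.card ↥H) := hodd.of_dvd_nat (Subgroup.card_subgroup_dvd_card H)
  by_cases hH1 : Nat.card ↥H = 1
  · refine ⟨{x₀}, fun g hg x => ?_⟩
    have : g ∈ H := by
      rw [hH, mem_stabilizer_iff]
      simpa using (hg x₀).2 rfl
    rw [Subgroup.eq_bot_of_card_eq H hH1, Subgroup.mem_bot] at this
    rw [this, one_smul]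
  have hAcard : Nat.card (Additive ↥N) = Nat.card X :=
    (Nat.card_congr Additive.toMul).trans hNcard
  have hp2 := two_mul_card_le hHodd (hpair ↥H (Additive ↥N) hHodd hirr.isCR hAcard.le)
  rw [hAcard] at hp2
  -- the degree is an odd prime power
  have hXodd : Odd (Nat.card X) := hNcard ▸ hodd.of_dvd_nat (Subgroup.card_subgroup_dvd_card N)
  obtain ⟨p, hp, hexp⟩ : ∃ p : ℕ, p.Prime ∧ ∀ a : ↥N, a ^ p = 1 := by
    obtain ⟨p, hp, hdvd⟩ := Nat.exists_prime_and_dvd (n := Nat.card ↥N) (by omega)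
    haveI := Fact.mk hp
    refine ⟨p, hp, fun a => ?_⟩
    let U : AddSubgroup (Additive ↥N) := (nsmulAddMonoidHom p).ker
    rcases hirr.2 U (fun h v hv => by
      change p • v = 0 at hv
      show p • h • v = 0
      rw [← smul_comm, hv, smul_zero]) with h | h
    · exfalso
      obtain ⟨z, hz⟩ := exists_prime_orderOf_dvd_card' p hdvd
      have : Additive.ofMul z ∈ U := by
        show p • Additive.ofMul z = 0
        rw [← ofMul_pow, ← hz, pow_orderOf_eq_one]; rfl
      rw [h, AddSubgroup.mem_bot] at this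
      rw [show z = 1 from this, orderOf_one] at hz
      exact hp.one_lt.ne hz
    · have : Additive.ofMul a ∈ U := h ▸ AddSubgroup.mem_top _
      change p • Additive.ofMul a = 0 at this
      rw [← ofMul_pow] at this
      exact this
  haveI := Fact.mk hp
  obtain ⟨k, hk⟩ : ∃ k, Nat.card X = p ^ k := by
    rw [← hNcard]
    exact IsPGroup.iff_card.1 fun a => ⟨1, by rw [pow_one]; exact hexp a⟩
  -- fixed points
  have hfixH : ∀ h : ↥H, h ≠ 1 → ∃ C : Subgroup ↥N, C ≠ ⊤ ∧
      Nat.card {x : X // (h : ↥G) • x = x} = Nat.card C := by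
    intro h hne
    let C : Subgroup ↥N := (MulAut.conjNormal (h : ↥G) : MulAut ↥N).toMonoidHom.eqLocus (MonoidHom.id _)
    refine ⟨C, fun htop => hne (eq_of_smul_eq_smul fun a : Additive ↥N => ?_), ?_⟩
    · rw [one_smul]
      exact congrArg Additive.ofMul (htop.symm ▸ Subgroup.mem_top a.toMul : a.toMul ∈ C)
    · refine (Nat.card_eq_of_bijective (fun a : ↥C => (⟨(a.1 : ↥G) • x₀, ?_⟩ : {x : X // (h : ↥G) • x = x}))
        ⟨fun a b hab => Subtype.ext (hbij.1 (congrArg Subtype.val hab)), fun x => ?_⟩).symm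
      · have h1 : (h : ↥G) * a.1 * (h : ↥G)⁻¹ = a.1 := by
          have := congrArg Subtype.val (a.2 : MulAut.conjNormal (h : ↥G) a.1 = a.1)
          exact (MulAut.conjNormal_apply _ _).symm.trans this
        rw [← mul_smul, mul_inv_eq_iff_eq_mul.1 h1, mul_smul,
          show (h : ↥G) • x₀ = x₀ from mem_stabilizer_iff.1 (hH ▸ h.2)]
      · obtain ⟨x, hx⟩ := x
        obtain ⟨a, rfl⟩ := hbij.2 x
        refine ⟨⟨a, ?_⟩, rfl⟩
        show MulAut.conjNormal (h : ↥G) a = a
        refine hbij.1 ?_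
        simp only [MulAut.conjNormal_apply, mul_smul]
        rw [show (h : ↥G)⁻¹ • x₀ = x₀ by
          rw [inv_smul_eq_iff]; exact (mem_stabilizer_iff.1 (hH ▸ h.2)).symm]
        exact hx
  have hfix : ∀ g : ↥G, g ≠ 1 → ∀ B : ℕ, (∀ C : Subgroup ↥N, C ≠ ⊤ → Nat.card C ≤ B) →
      Nat.card {x : X // g • x = x} ≤ B := by
    intro g hg B hB
    by_cases hemp : IsEmpty {x : X // g • x = x}
    · simp [Nat.card_of_isEmpty]
    obtain ⟨⟨x, hx⟩⟩ := not_isEmpty_iff.1 hemp
    obtain ⟨t, ht⟩ := htrans x₀ x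
    have hmem : t⁻¹ * g * t ∈ H := by
      rw [hH, mem_stabilizer_iff, mul_smul, mul_smul, ht, hx, inv_smul_eq_iff, ht]
    obtain ⟨C, hC, hcard⟩ := hfixH ⟨_, hmem⟩ (fun h => hg (by
      have := congrArg (fun s : ↥H => t * (s : ↥G) * t⁻¹) h
      simpa [mul_assoc] using this))
    refine le_trans (le_of_eq ?_) (hB C hC)
    rw [← hcard]
    refine Nat.card_congr ((MulAction.toPerm t⁻¹).subtypeEquiv fun y => ?_)
    simp [mul_smul]
  have hp3 : ∀ C : Subgroup ↥N, C ≠ ⊤ → 3 * Nat.card C ≤ Nat.card X := fun C hC => by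
    rw [← hNcard, ← Subgroup.index_mul_card C]
    refine Nat.mul_le_mul_right _ ?_
    have h1 := Subgroup.one_lt_index_of_ne_top hC
    have h2 : Odd C.index := (hNcard.symm ▸ hXodd).of_dvd_nat C.index_dvd_card
    obtain ⟨a, ha⟩ := h2
    omega
  have hf3 : ∀ g : ↥G, g ≠ 1 → 3 * Nat.card {x : X // g • x = x} ≤ Nat.card X := fun g hg => by
    have := hfix g hg (Nat.card X / 3) fun C hC => by have := hp3 C hC; omega
    omega
  have h25 : Nat.card X = 25 → Nat.card ↥H ≤ 15 := fun h =>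
    bound_twentyFive hHodd hirr.isCR (hAcard.trans h)
  have h27 : Nat.card X = 27 → Nat.card ↥H ≤ 39 := fun h =>
    bound_twentySeven hHodd (H16.FT.oddOrder hHodd) hirr.isCR (hAcard.trans h)
  have h9 : Nat.card X ≠ 9 := fun h => hH1 (bound_nine hHodd hirr.isCR (hAcard.trans h))
  by_cases hk1 : k = 1
  · subst hk1
    rw [pow_one] at hk
    have hHdvd : Nat.card ↥H ∣ p - 1 := by
      have h := card_dvd_GL (X := ↥H) (N := Additive ↥N) (p := p) (k := 1) (fun v => by
        show Additive.ofMul (v.toMul ^ p) = 0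
        rw [hexp]; rfl) (by rw [hAcard, hk, pow_one])
      simpa using h
    refine hasSet_of_count hodd ((Nat.card X + 2) / 3) (fun g hg => ?_) ?_
    · have h1 := hfix g hg 1 fun C hC => by
        have hd : Nat.card C ∣ p := hk ▸ hNcard ▸ Subgroup.card_subgroup_dvd_card C
        rcases (Nat.dvd_prime hp).1 hd with h | h
        · omega
        · exact absurd (Subgroup.eq_top_of_card_eq C (by rw [h, hNcard, hk])) hC
      have := three_mul_orbits_le hodd g (X := X)
      omega
    · rw [hGcard]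
      exact primitive_count hp (k := 1) (by rw [pow_one]; exact hk) hXodd hp2 (by omega)
        (fun _ => ⟨hHdvd, by omega⟩) hHodd hH1 h9 h25 h27
  · refine hasSet_of_count hodd (5 * Nat.card X / 9) (fun g hg => ?_) ?_
    · have h1 := hf3 g hg
      have := three_mul_orbits_le hodd g (X := X)
      omega
    · rw [hGcard]
      exact primitive_count hp hk hXodd hp2 (by omega) (fun h => absurd h hk1) hHodd hH1 h9 h25 h27

end H35.OddBase
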